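import Groth.Agent.SGA3x.K204.FinMTFam
import Groth.Agent.SGA3x.K6.HomLoc
import Groth.Agent.S0084

/-!
# Finite subgroups of multiplicative type of an affine group

`main`: `G` affine and locally of finite presentation over `S`: the functor of finite subgroups of multiplicative type of
`G` is representable.
-/

set_option autoImplicit false
universe u
open CategoryTheory MonoidalCategory CartesianMonoidalCategory MonObj GrpObj AlgebraicGeometry Limits

namespace K204.FinMTMain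

open Groth.Agent Groth.Agent.SGA3x.K5.Clopen Groth.Agent.Sga3B Groth.Agent.Sga3B.BcPts Groth.Agent.Sga3B.MT
  Groth.Agent.Sga3B.Parab Groth.Agent.Redsub.H649.ConjPts K204.MonoScheme K204.FinMTLoc K204.SubRep K204.FinMTFam

variable {S : Scheme.{u}} {G : Over S} [GrpObj G]

/-- Morphisms agreeing on a neighbourhood of every point are equal. -/
lemma hom_ext_local {Z Y : Scheme.{u}} (a b : Z ⟶ Y) (h : ∀ z : Z, ∃ U : Z.Opens, z ∈ U ∧ U.ι ≫ a = U.ι ≫ b) : a = b := by
  choose U hU hab using h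
  let 𝒰 : Scheme.OpenCover.{u} Z := Scheme.openCoverOfIsOpenCover Z U (by
    rw [TopologicalSpace.IsOpenCover, eq_top_iff]
    intro w _
    exact TopologicalSpace.Opens.mem_iSup.2 ⟨w, hU w⟩)
  exact Scheme.Cover.hom_ext 𝒰 _ _ fun w => hab w

section eq

variable {Γ : Type} [AddCommGroup Γ] {P : Over S} {χ : Red.DS S Γ ⊗ P ⟶ G} (hχ : Rep χ)
  {h : P.left ⟶ S} (hh : h = P.hom) {T : Over P.left} (t : T ⟶ Red.bc h G)
  (ht : ∀ (X : Over S) (a : X ⟶ P) (γ : X ⟶ G), Pt t a.left γ.left ↔ ∃ d, lift d a ≫ χ = γ)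

include ht hh in
/-- The family is invariant under automorphisms. -/
lemma same_act (ε : Γ ≃+ Γ) {Z : Scheme.{u}} (a : Z ⟶ P.left) : Same t t a (a ≫ (act hχ ε).left) := by
  subst hh
  let X : Over S := Over.mk (a ≫ P.hom)
  let a' : X ⟶ P := Over.homMk a rfl
  refine same_of_over (X := X) a _ rfl (Over.w (a' ≫ act hχ ε)) fun Y y γ => ?_
  have e1 : y.left ≫ a = (y ≫ a').left := rfl
  have e2 : y.left ≫ a ≫ (act hχ ε).left = (y ≫ a' ≫ act hχ ε).left := rfl
  rw [e1, e2, ht, ht]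
  have hi : IsIso (Red.DSmap S ε.toAddMonoidHom) := K7.DSProp.isIso_DSmap S _ ε.bijective
  have e3 : ∀ d : Y ⟶ Red.DS S Γ, lift d (y ≫ a' ≫ act hχ ε) ≫ χ =
      lift (d ≫ Red.DSmap S ε.toAddMonoidHom) (y ≫ a') ≫ χ := fun d => by
    rw [← Category.assoc y, act_spec hχ]
  constructor
  · rintro ⟨d, hd⟩
    refine ⟨d ≫ inv (Red.DSmap S ε.toAddMonoidHom), ?_⟩
    rw [e3, Category.assoc, IsIso.inv_hom_id, Category.comp_id, hd]
  · rintro ⟨d, hd⟩
    exact ⟨d ≫ Red.DSmap S ε.toAddMonoidHom, by rw [← e3, hd]⟩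

end eq

/-- Points of two families with the same pullbacks are locally related. -/
theorem exists_equiv_of_same {Γ Δ : Type} [AddCommGroup Γ] [AddCommGroup Δ] [Finite Γ] [Finite Δ] {P Q : Over S}
    {χ : Red.DS S Γ ⊗ P ⟶ G} (hχ : Rep χ) {ψ : Red.DS S Δ ⊗ Q ⟶ G} (hψ : Rep ψ)
    {h : P.left ⟶ S} {h' : Q.left ⟶ S} (hh : h = P.hom) (hh' : h' = Q.hom)
    {T : Over P.left} (t : T ⟶ Red.bc h G) {T' : Over Q.left} (t' : T' ⟶ Red.bc h' G)
    (ht : ∀ (X : Over S) (a : X ⟶ P) (γ : X ⟶ G), Pt t a.left γ.left ↔ ∃ d, lift d a ≫ χ = γ)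
    (ht' : ∀ (X : Over S) (a : X ⟶ Q) (γ : X ⟶ G), Pt t' a.left γ.left ↔ ∃ d, lift d a ≫ ψ = γ)
    {Z : Scheme.{u}} (a : Z ⟶ P.left) (b : Z ⟶ Q.left) (hab : a ≫ h = b ≫ h') (hs : Same t t' a b) (z : Z) :
    ∃ (U : Z.Opens) (_ : z ∈ U) (ε : Δ ≃+ Γ), ∀ (X : Over S) (x : X ⟶ Over.mk (U.ι ≫ a ≫ h))
      (d : X ⟶ Red.DS S Γ), ∀ (p : X ⟶ P) (q : X ⟶ Q), p.left = x.left ≫ U.ι ≫ a → q.left = x.left ≫ U.ι ≫ b →
        lift d p ≫ χ = lift (d ≫ Red.DSmap S ε.toAddMonoidHom) q ≫ ψ := by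
  subst hh hh'
  let a' : Over.mk (a ≫ P.hom) ⟶ P := Over.homMk a rfl
  let b' : Over.mk (a ≫ P.hom) ⟶ Q := Over.homMk b hab.symm
  obtain ⟨U, hz, ε, hε⟩ := exists_near_equiv (a ≫ P.hom) ((Red.DS S Γ ◁ a') ≫ χ) ((Red.DS S Δ ◁ b') ≫ ψ)
    (isHomFamily_comp hχ.hom a') (isHomFamily_comp hψ.hom b') (hχ.triv.comp a') (hψ.triv.comp b')
    (fun X x γ => by
      have h1 := hs X.left x.left γ.left
      have e1 : x.left ≫ a = (x ≫ a').left := rfl
      have e2 : x.left ≫ b = (x ≫ b').left := rfl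
      rw [e1, e2, ht, ht'] at h1
      simpa only [lift_whisker] using h1) z
  refine ⟨U, hz, ε, fun X x d p q hp hq => ?_⟩
  let x' : X ⟶ Over.mk (a ≫ P.hom) := Over.homMk (x.left ≫ U.ι) (by
    have := Over.w x
    rw [← this]
    change (x.left ≫ U.ι) ≫ a ≫ P.hom = x.left ≫ U.ι ≫ a ≫ P.hom
    rw [Category.assoc])
  have e1 : x' ≫ a' = p := by
    ext1
    rw [hp]
    exact Category.assoc _ _ _
  have e2 : x' ≫ b' = q := by
    ext1
    rw [hq]
    exact Category.assoc _ _ _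
  have h2 := hε X d x' (by
    rintro _ ⟨w, rfl⟩
    change (x.left ≫ U.ι) w ∈ U
    rw [Scheme.Hom.comp_apply]
    exact (x.left w).2)
  rw [lift_whisker, lift_whisker, e1, e2] at h2
  exact h2

/-- **Finite subgroups of multiplicative type are parametrised by a scheme.** -/
theorem main (G : Over S) [GrpObj G] [IsAffineHom G.hom] [LocallyOfFinitePresentation G.hom] :
    ∃ (M : Over S) (K : Over M.left) (_ : GrpObj K) (j : K ⟶ Red.bc M.hom G),
      (∀ m : ↥M.left, ∃ U : M.left.Opens, m ∈ U ∧ IsClosed (U : Set ↥M.left) ∧ IsAffineHom (U.ι ≫ M.hom)) ∧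
      IsMonHom j ∧ IsClosedImmersion j.left ∧ SGA3x.IsMultTypeFT K ∧ IsFinite K.hom ∧
      (∀ (T : Scheme.{u}) (f : T ⟶ S) (K' : Over T) [GrpObj K'] (j' : K' ⟶ Red.bc f G),
        IsMonHom j' → Mono j' → SGA3x.IsMultTypeFT K' → IsFinite K'.hom →
        ∃! v : T ⟶ M.left, v ≫ M.hom = f ∧ Same j' j (𝟙 _) v) ∧
      LocallyOfFinitePresentation M.hom := by
  choose P M χ hχ p h1 h2 h3 h4 h5 h6 h7 using fun i : ULift.{u} Idx =>
    exists_quot (S := S) G (Gp i.down) (isFinite_DS S (Gp i.down))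
  let MM : Over S := Over.mk (Sigma.desc fun i => (M i).hom)
  let f : ∀ i, (P i).left ⟶ MM.left := fun i => (p i).left ≫ Sigma.ι (fun i => (M i).left) i
  have hf : ∀ i, f i ≫ MM.hom = (P i).hom := fun i => by
    change ((p i).left ≫ Sigma.ι (fun i => (M i).left) i) ≫ Sigma.desc (fun i => (M i).hom) = (P i).hom
    rw [Category.assoc, Sigma.ι_desc, Over.w]
  choose T gT t t1 t2 t3 t4 t5 t6 using fun i => exists_fam (hχ i) (hf i)
  have hfe : ∀ i, Etale (f i) := fun i => inferInstanceAs (Etale ((p i).left ≫ Sigma.ι (fun i => (M i).left) i))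
  have hcov : EtHom.IsCov f := by
    refine ⟨fun i => inferInstance, fun i => inferInstance, fun m => ?_⟩
    obtain ⟨i, y, hy⟩ := (sigmaOpenCover fun i => (M i).left).exists_eq m
    obtain ⟨x, hx⟩ := (h3 i).surj y
    exact ⟨i, x, by
      change ((p i).left ≫ Sigma.ι (fun i => (M i).left) i) x = m
      rw [Scheme.Hom.comp_apply, hx]
      exact hy⟩
  -- two points with the same image give the same subgroup
  have hsame : ∀ (i j : ULift.{u} Idx) (Z : Scheme.{u}) (a : Z ⟶ (P i).left) (b : Z ⟶ (P j).left),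
      a ≫ f i = b ≫ f j → Same (t i) (t j) a b := by
    intro i j Z a b hab
    by_cases hij : i = j
    · subst hij
      have hab' : a ≫ (p i).left = b ≫ (p i).left := by
        rw [← cancel_mono (Sigma.ι (fun i => (M i).left) i), Category.assoc, Category.assoc]
        exact hab
      choose U hU ε hε using h7 i Z a b hab'
      have hm := t3 i
      refine Same.of_cover (by rw [hf, ← Over.w (p i), ← Category.assoc, hab', Category.assoc])
        (fun z => (U z : Scheme.{u})) (fun z => (U z).ι) (fun z => inferInstance) (fun z => inferInstance)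
        (fun z => ⟨z, ⟨z, hU z⟩, rfl⟩) fun z => ?_
      rw [hε z, ← Category.assoc]
      exact same_act (hχ i) (hf i) (t i) (t6 i) (ε z) _
    · have : IsEmpty Z := isEmpty_of_commSq_sigmaι_of_ne (g := fun i => (M i).left)
        (a := a ≫ (p i).left) (b := b ≫ (p j).left) ⟨by
          rw [Category.assoc, Category.assoc]
          exact hab⟩ hij
      intro Y y γ
      have : IsEmpty Y := Function.isEmpty y
      have hY : ∀ {W : Scheme.{u}} (u v : Y ⟶ W), u = v := fun u v => (isInitialOfIsEmpty (X := Y)).hom_ext u v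
      exact ⟨fun _ => ⟨(isInitialOfIsEmpty (X := Y)).to _, hY _ _, hY _ _⟩,
        fun _ => ⟨(isInitialOfIsEmpty (X := Y)).to _, hY _ _, hY _ _⟩⟩
  -- two points giving the same subgroup have the same image
  have heq : ∀ (i j : ULift.{u} Idx) (Z : Scheme.{u}) (a : Z ⟶ (P i).left) (b : Z ⟶ (P j).left),
      a ≫ f i ≫ MM.hom = b ≫ f j ≫ MM.hom → Same (t i) (t j) a b → a ≫ f i = b ≫ f j := by
    intro i j Z a b hab hs
    refine hom_ext_local _ _ fun z => ?_
    obtain ⟨U, hz, ε, hε⟩ := exists_equiv_of_same (hχ i) (hχ j) (hf i) (hf j) (t i) (t j) (t6 i) (t6 j) a b hab hs z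
    obtain ⟨i⟩ := i
    obtain ⟨j⟩ := j
    obtain rfl : j = i := idx_eq ⟨ε⟩
    refine ⟨U, hz, ?_⟩
    let X : Over S := Over.mk (U.ι ≫ a ≫ f ⟨j⟩ ≫ MM.hom)
    let a' : X ⟶ P ⟨j⟩ := Over.homMk (U.ι ≫ a) (by
      rw [← hf]
      change (U.ι ≫ a) ≫ f ⟨j⟩ ≫ MM.hom = U.ι ≫ a ≫ f ⟨j⟩ ≫ MM.hom
      rw [Category.assoc])
    let b' : X ⟶ P ⟨j⟩ := Over.homMk (U.ι ≫ b) (by
      rw [← hf]
      change (U.ι ≫ b) ≫ f ⟨j⟩ ≫ MM.hom = U.ι ≫ a ≫ f ⟨j⟩ ≫ MM.hom
      rw [Category.assoc, hab])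
    have key : a' = b' ≫ act (hχ ⟨j⟩) ε := by
      refine (hχ ⟨j⟩).ext _ _ fun Y y d => ?_
      rw [← Category.assoc, act_spec (hχ ⟨j⟩)]
      exact hε Y y d (y ≫ a') (y ≫ b') rfl rfl
    have key2 : a' ≫ p ⟨j⟩ = b' ≫ p ⟨j⟩ := by
      rw [key, Category.assoc, h6]
    have key3 : (U.ι ≫ a) ≫ (p ⟨j⟩).left = (U.ι ≫ b) ≫ (p ⟨j⟩).left := congrArg (fun k => k.left) key2
    change U.ι ≫ a ≫ (p ⟨j⟩).left ≫ Sigma.ι (fun i => (M i).left) ⟨j⟩ =
      U.ι ≫ b ≫ (p ⟨j⟩).left ≫ Sigma.ι (fun i => (M i).left) ⟨j⟩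
    rw [← Category.assoc, ← Category.assoc, key3, Category.assoc, Category.assoc]
  obtain ⟨K, gK, k, k1, k2, k3, k4⟩ := exists_univ MM f t hcov hsame
  have hkm : Mono k := Sga3C.ClosedSub.mono_of_left k
  refine ⟨MM, K, gK, k, fun m => ?_, k1, k2, ?_, ?_, fun T' f' K' _ j' hj1 hj2 hj3 hj4 => ?_, ?_⟩
  · -- the pieces
    obtain ⟨i, y, hy⟩ := (sigmaOpenCover fun i => (M i).left).exists_eq m
    have hi : IsOpenImmersion (Sigma.ι (fun i => (M i).left) i) := inferInstance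
    refine ⟨(Sigma.ι (fun i => (M i).left) i).opensRange, ⟨y, hy⟩, ?_, ?_⟩
    · rw [← isOpen_compl_iff]
      change IsOpen (Set.range (Sigma.ι (fun i => (M i).left) i))ᶜ
      have : (Set.range (Sigma.ι (fun i => (M i).left) i))ᶜ =
          ⋃ j : {j // j ≠ i}, Set.range (Sigma.ι (fun i => (M i).left) j.1) := by
        ext x
        obtain ⟨j, z, hz⟩ := (sigmaOpenCover fun i => (M i).left).exists_eq x
        constructor
        · intro hx
          refine Set.mem_iUnion.2 ⟨⟨j, ?_⟩, z, hz⟩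
          rintro rfl
          exact hx ⟨z, hz⟩
        · intro hx hx'
          obtain ⟨⟨j', hj'⟩, z', hz'⟩ := Set.mem_iUnion.1 hx
          obtain ⟨w, hw⟩ := hx'
          have h8 := (sigmaι_eq_iff (fun i => (M i).left) j' i z' w).1 (hz'.trans hw.symm)
          exact hj' (Sigma.mk.inj_iff.1 h8).1
      rw [this]
      exact isOpen_iUnion fun j => (Sigma.ι (fun i => (M i).left) j.1).isOpenEmbedding.isOpen_range
    · have e1 : (Sigma.ι (fun i => (M i).left) i).opensRange.ι ≫ MM.hom =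
          (Sigma.ι (fun i => (M i).left) i).isoOpensRange.inv ≫ (M i).hom := by
        rw [Iso.eq_inv_comp, ← Category.assoc, Scheme.Hom.isoOpensRange_hom_ι]
        exact Sigma.ι_desc _ _
      have := h4 i
      rw [e1]
      infer_instance
  · -- multiplicative type
    refine _root_.K10.MTLoc.of_family f hcov.flat (fun j => (f j).isOpenMap) hcov.surj fun j => ?_
    obtain ⟨e⟩ := k4 j
    exact _root_.K10.MTLoc.of_iso e (t5 j)
  · -- finiteness
    have hd : MorphismProperty.DescendsAlong @IsFinite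
      (@Surjective ⊓ @Flat ⊓ @QuasiCompact : MorphismProperty Scheme.{u}) := Groth.Agent.S0084.result
    have h8 : IsFinite (toUnit K).left := by
      refine EtHom.of_cover @IsFinite hcov (toUnit K) fun i => ?_
      obtain ⟨e⟩ := k4 i
      have h9 : IsFinite (Red.bc (f i) K).hom := by
        have := t4 i
        exact TorusAlgClosed.prop_of_grp_iso (P := @IsFinite) e.symm this
      have h10 : ((Over.pullback (f i)).map (toUnit K)).left ≫ (Red.bc (f i) (𝟙_ (Over MM.left))).hom =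
        (Red.bc (f i) K).hom := Over.w _
      have h11 : IsIso (Red.bc (f i) (𝟙_ (Over MM.left))).hom := by
        change IsIso (pullback.snd (𝟙 MM.left) (f i))
        infer_instance
      have h12 : ((Over.pullback (f i)).map (toUnit K)).left =
          (Red.bc (f i) K).hom ≫ inv (Red.bc (f i) (𝟙_ (Over MM.left))).hom := by
        rw [← h10, Category.assoc, IsIso.hom_inv_id, Category.comp_id]
      rw [h12]
      infer_instance
    have h13 : (toUnit K).left = K.hom := by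
      have := Over.w (toUnit K)
      rw [← this]
      exact (Category.comp_id _).symm
    rwa [h13] at h8
  · -- the universal property
    have key : ∀ s : T', ∃ (B : Type u) (_ : CommRing B) (v : Spec (CommRingCat.of B) ⟶ T') (i : ULift.{u} Idx),
        Etale v ∧ s ∈ Set.range v ∧ Nonempty (Grp.mk (Red.bc v K') ≅ Grp.mk (Red.DS (Spec (CommRingCat.of B)) (Gp i.down))) := by
      intro s
      obtain ⟨B, _, v, N, _, hv, ⟨y, hy⟩, hN, ⟨e⟩⟩ := _root_.K10.MTLoc.exists_etale_split hj3 s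
      have hB : Nontrivial B := (PrimeSpectrum.nonempty_iff_nontrivial (R := B)).1 ⟨y⟩
      have hN' : Finite N := K6.HomLoc.finite_of_isFinite ⟨e⟩ (MorphismProperty.pullback_snd (P := @IsFinite) _ _ hj4)
      obtain ⟨i, ⟨ε⟩⟩ := exists_idx N
      refine ⟨B, inferInstance, v, ⟨i⟩, hv, ⟨y, hy⟩, ⟨e ≪≫ ?_⟩⟩
      have hi1 : IsIso (Red.DSmap (Spec (CommRingCat.of B)) ε.symm.toAddMonoidHom) :=
        K7.DSProp.isIso_DSmap _ _ ε.symm.bijective
      have hi2 : IsMonHom (Red.DSmap (Spec (CommRingCat.of B)) ε.symm.toAddMonoidHom) :=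
        K6.HomDS.isMonHom_DSmap _ _
      exact Grp.mkIso' (asIso (Red.DSmap (Spec (CommRingCat.of B)) ε.symm.toAddMonoidHom))
    choose B rB v σ v1 v2 v3 using key
    choose a a1 a2 using fun s => exists_point (hχ (σ s)) (hf (σ s)) (t (σ s)) (t6 (σ s)) j' (v s) (v3 s).some
    have hm : ∀ j, Mono (t j) := t3
    exact existsUnique_classifying MM f t hcov heq k k3 f' j' (fun s => Spec (CommRingCat.of (B s))) v
      (fun s => inferInstance) (fun s => inferInstance) (fun s => ⟨s, v2 s⟩) σ a a1 a2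
  · have : ∀ i, LocallyOfFinitePresentation (M i).hom := h5
    exact IsZariskiLocalAtSource.sigmaDesc (P := @LocallyOfFinitePresentation) fun i => inferInstance

end K204.FinMTMain
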