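import Groth.Agent.Redsub.H649.ConjPts
import Groth.Agent.Sga3B.MT.Descend
import Groth.Agent.Sga3B.AdFppf

/-!
# Representing functors of subgroups by quotients

`G` a group over `S`, `M` over `S`, a covering `f j : X j ⟶ M` (flat, locally of finite presentation) and closed
subgroups `t j : T j ⟶ bc (f j ≫ M.hom) G`.  `Same h₁ h₂ y₁ y₂`: the pullbacks of the subschemes `h₁`, `h₂` of base
changes of `G` along `y₁`, `y₂` have the same points.

* `exists_univ`: if two points of `X i`, `X j` with the same image in `M` give the same subgroup, the family descends to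
  `p : P ⟶ bc M.hom G`;
* `existsUnique_classifying`: if moreover points of `X i`, `X j` giving the same subgroup have the same image in `M`,
  every subgroup which is locally a pullback of the family is the pullback of `p` along a unique morphism to `M`;
* `exists_iso_of_same`, `same_of_iso`: translation between `Same` and isomorphisms of subschemes.
-/

set_option autoImplicit false
universe u
open CategoryTheory MonoidalCategory CartesianMonoidalCategory MonObj GrpObj AlgebraicGeometry Limits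

namespace K204.SubRep

open Groth.Agent Groth.Agent.Sga3B Groth.Agent.Sga3B.BcPts Groth.Agent.Sga3B.MT Groth.Agent.Sga3B.Parab
  Groth.Agent.Redsub.H649.ConjPts

variable {S : Scheme.{u}} {G : Over S}

section pt

variable {S₁ S₂ S₃ : Scheme.{u}} {f₁ : S₁ ⟶ S} {f₂ : S₂ ⟶ S} {f₃ : S₃ ⟶ S} {H₁ : Over S₁} {H₂ : Over S₂} {H₃ : Over S₃}

/-- Points of a subscheme descend along flat surjections locally of finite presentation. -/
lemma pt_of_cover {h : H₁ ⟶ Red.bc f₁ G} [Mono h] {X : Scheme.{u}} {y : X ⟶ S₁} {γ : X ⟶ G.left} {I : Type u}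
    (V : I → Scheme.{u}) (c : ∀ i, V i ⟶ X) (hfl : ∀ i, Flat (c i)) (hlfp : ∀ i, LocallyOfFinitePresentation (c i))
    (hs : ∀ x : X, ∃ i, x ∈ Set.range (c i)) (w : γ ≫ G.hom = y ≫ f₁)
    (H : ∀ i, Pt h (c i ≫ y) (c i ≫ γ)) : Pt h y γ := by
  choose p hp1 hp2 using H
  have hm : Mono h.left := inferInstance
  have hh : h.left ≫ pullback.snd G.hom f₁ = H₁.hom := Over.w h
  have key : ∀ i, p i ≫ h.left = c i ≫ pullback.lift γ y w := by
    intro i
    apply pullback.hom_ext
    · rw [Category.assoc, Category.assoc, pullback.lift_fst, hp2]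
    · rw [Category.assoc, Category.assoc, pullback.lift_snd, hh, hp1]
  obtain ⟨q, hq, -⟩ := AdFppf.glueScheme V c hfl hlfp hs p (fun i j W a b hab => by
    rw [← cancel_mono h.left, Category.assoc, Category.assoc, key, key, ← Category.assoc, hab, Category.assoc])
  have hq' : q ≫ h.left = pullback.lift γ y w := by
    refine (AdFppf.glueScheme V c hfl hlfp hs (fun i => c i ≫ pullback.lift γ y w)
      (fun i j W a b hab => by rw [← Category.assoc, hab, Category.assoc])).unique (fun i => ?_) (fun i => rfl)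
    rw [← Category.assoc, hq, key]
  refine ⟨q, ?_, ?_⟩
  · rw [← hh, ← Category.assoc, hq', pullback.lift_snd]
  · rw [← Category.assoc, hq', pullback.lift_fst]

lemma pt_comp {h : H₁ ⟶ Red.bc f₁ G} {X X' : Scheme.{u}} {y : X ⟶ S₁} {γ : X ⟶ G.left} (c : X' ⟶ X)
    (H : Pt h y γ) : Pt h (c ≫ y) (c ≫ γ) := by
  obtain ⟨p, hp1, hp2⟩ := H
  exact ⟨c ≫ p, by rw [Category.assoc, hp1], by rw [Category.assoc, hp2]⟩

/-- The pullbacks of `h₁` along `y₁` and of `h₂` along `y₂` have the same points. -/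
def Same (h₁ : H₁ ⟶ Red.bc f₁ G) (h₂ : H₂ ⟶ Red.bc f₂ G) {X : Scheme.{u}} (y₁ : X ⟶ S₁) (y₂ : X ⟶ S₂) : Prop :=
  ∀ (Y : Scheme.{u}) (y : Y ⟶ X) (γ : Y ⟶ G.left), Pt h₁ (y ≫ y₁) γ ↔ Pt h₂ (y ≫ y₂) γ

variable {h₁ : H₁ ⟶ Red.bc f₁ G} {h₂ : H₂ ⟶ Red.bc f₂ G} {h₃ : H₃ ⟶ Red.bc f₃ G}

lemma Same.symm {X : Scheme.{u}} {y₁ : X ⟶ S₁} {y₂ : X ⟶ S₂} (H : Same h₁ h₂ y₁ y₂) : Same h₂ h₁ y₂ y₁ :=
  fun Y y γ => (H Y y γ).symm

lemma Same.trans {X : Scheme.{u}} {y₁ : X ⟶ S₁} {y₂ : X ⟶ S₂} {y₃ : X ⟶ S₃} (H : Same h₁ h₂ y₁ y₂)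
    (H' : Same h₂ h₃ y₂ y₃) : Same h₁ h₃ y₁ y₃ :=
  fun Y y γ => (H Y y γ).trans (H' Y y γ)

lemma Same.comp {X X' : Scheme.{u}} {y₁ : X ⟶ S₁} {y₂ : X ⟶ S₂} (c : X' ⟶ X) (H : Same h₁ h₂ y₁ y₂) :
    Same h₁ h₂ (c ≫ y₁) (c ≫ y₂) := by
  intro Y y γ
  have := H Y (y ≫ c) γ
  rwa [Category.assoc, Category.assoc] at this

/-- `Same` is fppf local. -/
lemma Same.of_cover [Mono h₁] [Mono h₂] {X : Scheme.{u}} {y₁ : X ⟶ S₁} {y₂ : X ⟶ S₂} {I : Type u}
    (w : y₁ ≫ f₁ = y₂ ≫ f₂)
    (V : I → Scheme.{u}) (c : ∀ i, V i ⟶ X) (hfl : ∀ i, Flat (c i)) (hlfp : ∀ i, LocallyOfFinitePresentation (c i))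
    (hs : ∀ x : X, ∃ i, x ∈ Set.range (c i)) (H : ∀ i, Same h₁ h₂ (c i ≫ y₁) (c i ≫ y₂)) : Same h₁ h₂ y₁ y₂ := by
  have main : ∀ {S₁ S₂ : Scheme.{u}} {f₁ : S₁ ⟶ S} {f₂ : S₂ ⟶ S} {H₁ : Over S₁} {H₂ : Over S₂}
      {h₁ : H₁ ⟶ Red.bc f₁ G} {h₂ : H₂ ⟶ Red.bc f₂ G} (_ : Mono h₂) (y₁ : X ⟶ S₁) (y₂ : X ⟶ S₂)
      (w : y₁ ≫ f₁ = y₂ ≫ f₂) (H : ∀ i, Same h₁ h₂ (c i ≫ y₁) (c i ≫ y₂)) (Y : Scheme.{u}) (y : Y ⟶ X)
      (γ : Y ⟶ G.left), Pt h₁ (y ≫ y₁) γ → Pt h₂ (y ≫ y₂) γ := by
    intro S₁ S₂ f₁ f₂ H₁ H₂ h₁ h₂ _ y₁ y₂ w H Y y γ hγ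
    refine pt_of_cover (fun i => pullback y (c i)) (fun i => pullback.fst y (c i)) (fun i => inferInstance)
      (fun i => inferInstance) (fun x => ?_) ?_ fun i => ?_
    · obtain ⟨i, z, hz⟩ := hs (y x)
      obtain ⟨u, hu, -⟩ := Scheme.Pullback.exists_preimage_pullback x z hz.symm
      exact ⟨i, u, hu⟩
    · have h := hγ.w
      rw [h, Category.assoc, w, Category.assoc]
    · have e : pullback.fst y (c i) ≫ y = pullback.snd y (c i) ≫ c i := pullback.condition
      have h5 := pt_comp (pullback.fst y (c i)) hγ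
      have h6 := (H i _ (pullback.snd y (c i)) (pullback.fst y (c i) ≫ γ)).1 (by
        rw [← Category.assoc, ← e]
        simpa only [Category.assoc] using h5)
      rw [← Category.assoc (pullback.snd y (c i)), ← e] at h6
      simpa only [Category.assoc] using h6
  exact fun Y y γ => ⟨main ‹_› y₁ y₂ w H Y y γ, main ‹_› y₂ y₁ w.symm (fun i => (H i).symm) Y y γ⟩

end pt

section Dict

variable {S' : Scheme.{u}} {f : S' ⟶ S} {H : Over S'} (h : H ⟶ Red.bc f G) (M : Over S) {K : Over M.left}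
  (k : K ⟶ Red.bc M.hom G) (v : S' ⟶ M.left)

/-- Equality of points gives an isomorphism. -/
lemma exists_iso_of_same [Mono h] [Mono k] (hpt : Same h k (𝟙 S') v) :
    ∃ φ : H.left ≅ (Red.bc v K).left, φ.hom ≫ (Red.bc v K).hom = H.hom ∧
      φ.hom ≫ ((Over.pullback v).map k).left ≫ pullback.fst (Red.bc M.hom G).hom v ≫
        pullback.fst G.hom M.hom = h.left ≫ pullback.fst G.hom f := by
  have hmh : Mono h.left := inferInstance
  have hmk : Mono k.left := inferInstance
  have hh : h.left ≫ pullback.snd G.hom f = H.hom := Over.w h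
  have hk : k.left ≫ pullback.snd G.hom M.hom = K.hom := Over.w k
  have hpb : ((Over.pullback v).map k).left ≫ pullback.fst (Red.bc M.hom G).hom v =
      pullback.fst K.hom v ≫ k.left := (EtHom.isPullback_map v k).w.symm
  obtain ⟨a, ha1, ha2⟩ := (hpt H.left H.hom (h.left ≫ pullback.fst G.hom f)).1
    ⟨𝟙 _, by rw [Category.id_comp, Category.comp_id], Category.id_comp _⟩
  obtain ⟨b, hb1, hb2⟩ := (hpt (pullback K.hom v) (pullback.snd K.hom v)
    (pullback.fst K.hom v ≫ k.left ≫ pullback.fst G.hom M.hom)).2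
    ⟨pullback.fst K.hom v, pullback.condition, rfl⟩
  rw [Category.comp_id] at hb1
  have e1 : pullback.lift a H.hom ha1 ≫ b = 𝟙 _ := by
    rw [← cancel_mono h.left]
    apply pullback.hom_ext
    · rw [Category.id_comp, Category.assoc, Category.assoc, hb2, ← Category.assoc, pullback.lift_fst, ha2]
    · rw [Category.id_comp, Category.assoc, Category.assoc, hh, hb1, pullback.lift_snd]
  have e2 : b ≫ pullback.lift a H.hom ha1 = 𝟙 _ := by
    apply pullback.hom_ext
    · rw [Category.assoc, pullback.lift_fst, Category.id_comp, ← cancel_mono k.left]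
      apply pullback.hom_ext
      · rw [Category.assoc, Category.assoc, Category.assoc, ha2, hb2]
      · rw [Category.assoc, Category.assoc, Category.assoc, hk, ha1, ← Category.assoc, hb1,
          pullback.condition]
    · rw [Category.assoc, pullback.lift_snd, Category.id_comp, hb1]
  refine ⟨⟨pullback.lift a H.hom ha1, b, e1, e2⟩, ?_, ?_⟩
  · exact pullback.lift_snd _ _ _
  · change pullback.lift a H.hom ha1 ≫ _ = _
    rw [← Category.assoc ((Over.pullback v).map k).left, hpb, Category.assoc, ← Category.assoc,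
      pullback.lift_fst, ha2]

/-- Conversely, an isomorphism gives equality of points. -/
lemma same_of_iso (φ : H.left ≅ (Red.bc v K).left)
    (h1 : φ.hom ≫ (Red.bc v K).hom = H.hom)
    (h2 : φ.hom ≫ ((Over.pullback v).map k).left ≫ pullback.fst (Red.bc M.hom G).hom v ≫
        pullback.fst G.hom M.hom = h.left ≫ pullback.fst G.hom f) : Same h k (𝟙 S') v := by
  intro X y γ
  rw [Category.comp_id]
  have hpb : ((Over.pullback v).map k).left ≫ pullback.fst (Red.bc M.hom G).hom v =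
      pullback.fst K.hom v ≫ k.left := (EtHom.isPullback_map v k).w.symm
  have h1' : φ.hom ≫ pullback.snd K.hom v = H.hom := h1
  have h2' : φ.hom ≫ pullback.fst K.hom v ≫ k.left ≫ pullback.fst G.hom M.hom =
      h.left ≫ pullback.fst G.hom f := by
    rw [← h2, ← Category.assoc ((Over.pullback v).map k).left, hpb, Category.assoc]
  constructor
  · rintro ⟨p, rfl, rfl⟩
    refine ⟨p ≫ φ.hom ≫ pullback.fst K.hom v, ?_, ?_⟩
    · rw [Category.assoc, Category.assoc, pullback.condition, ← Category.assoc φ.hom, h1',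
        Category.assoc]
    · rw [← h2']
      simp only [Category.assoc]
  · rintro ⟨p, hp1, rfl⟩
    refine ⟨pullback.lift p y hp1 ≫ φ.inv, ?_, ?_⟩
    · rw [← h1', Category.assoc, Iso.inv_hom_id_assoc, pullback.lift_snd]
    · rw [← h2', Category.assoc, Iso.inv_hom_id_assoc, ← Category.assoc, pullback.lift_fst]

end Dict

section univ

variable [GrpObj G] (M : Over S) {J : Type u} {X : J → Scheme.{u}} (f : ∀ j, X j ⟶ M.left) {T : ∀ j, Over (X j)}
  (t : ∀ j, T j ⟶ Red.bc (f j ≫ M.hom) G)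

/-- the family as subschemes of base changes of `bc M.hom G` -/
noncomputable def tt (j : J) : T j ⟶ Red.bc (f j) (Red.bc M.hom G) :=
  t j ≫ (Over.pullbackComp (f j) M.hom).hom.app G

omit [GrpObj G] in
lemma memAt_tt (j : J) {Z : Over M.left} (a : Z ⟶ Over.mk (f j)) (g : Z ⟶ Red.bc M.hom G) :
    MemAt (tt M f t j) a g ↔ Pt (t j) a.left (g.left ≫ pullback.fst G.hom M.hom) := by
  rw [memAt_iff']
  have e1 : (tt M f t j).left ≫ pullback.fst (Red.bc M.hom G).hom (f j) ≫ pullback.fst G.hom M.hom =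
      (t j).left ≫ pullback.fst G.hom (f j ≫ M.hom) := by
    rw [tt, Over.comp_left, Category.assoc]
    exact congrArg ((t j).left ≫ ·) (pullbackComp_hom_fst (f := M.hom) (f j) G)
  have e2 : (tt M f t j).left ≫ pullback.fst (Red.bc M.hom G).hom (f j) ≫ pullback.snd G.hom M.hom =
      (T j).hom ≫ f j := by
    have h1 : (tt M f t j).left ≫ pullback.snd (Red.bc M.hom G).hom (f j) = (T j).hom := Over.w (tt M f t j)
    have h2 : pullback.fst (Red.bc M.hom G).hom (f j) ≫ pullback.snd G.hom M.hom =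
        pullback.snd (Red.bc M.hom G).hom (f j) ≫ f j := pullback.condition
    rw [h2, ← Category.assoc, h1]
  have hg : g.left ≫ pullback.snd G.hom M.hom = Z.hom := Over.w g
  have ha : a.left ≫ f j = Z.hom := Over.w a
  constructor
  · rintro ⟨x, h1, h2⟩
    refine ⟨x, h1, ?_⟩
    rw [← h2, ← e1]
    simp only [Category.assoc]
  · rintro ⟨x, h1, h2⟩
    refine ⟨x, h1, ?_⟩
    apply pullback.hom_ext
    · rw [← h2, ← e1]
      simp only [Category.assoc]
    · rw [hg, Category.assoc, Category.assoc, e2, ← Category.assoc, h1, ha]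

/-- **Descent of the family** of subgroups. -/
theorem exists_univ [∀ j, GrpObj (T j)] [∀ j, IsMonHom (t j)] [∀ j, IsClosedImmersion (t j).left]
    (hf : EtHom.IsCov f)
    (hsame : ∀ (i j : J) (Z : Scheme.{u}) (a : Z ⟶ X i) (b : Z ⟶ X j), a ≫ f i = b ≫ f j → Same (t i) (t j) a b) :
    ∃ (P : Over M.left) (_ : GrpObj P) (p : P ⟶ Red.bc M.hom G), IsMonHom p ∧ IsClosedImmersion p.left ∧
      (∀ j, Same p (t j) (f j) (𝟙 _)) ∧ ∀ j, Nonempty (Grp.mk (T j) ≅ Grp.mk (Red.bc (f j) P)) := by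
  have h1 : ∀ j, IsMonHom (tt M f t j) := fun j => by
    rw [tt, ← BcNat.und_bcCompIso]
    have : IsMonHom (RedIso.und (BcIso.bcCompIso (f j) M.hom G)).hom :=
      inferInstanceAs (IsMonHom (BcIso.bcCompIso (f j) M.hom G).hom.hom.hom)
    infer_instance
  have h2 : ∀ j, IsClosedImmersion (tt M f t j).left := fun j => by
    have : IsIso ((Over.pullbackComp (f j) M.hom).hom.app G).left :=
      inferInstanceAs (IsIso ((Over.forget _).map ((Over.pullbackComp (f j) M.hom).hom.app G)))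
    rw [tt, Over.comp_left]
    infer_instance
  have hc : Compat (tt M f t) := by
    intro i j Z a b g hg
    rw [memAt_tt] at hg ⊢
    have hab : a.left ≫ f i = b.left ≫ f j := (Over.w a).trans (Over.w b).symm
    have := (hsame i j _ a.left b.left hab _ (𝟙 _) (g.left ≫ pullback.fst G.hom M.hom)).1
      (by rwa [Category.id_comp])
    rwa [Category.id_comp] at this
  obtain ⟨P, hP, p, hp, hpc, he⟩ := exists_closed_subgroup_of_family hf (tt M f t) hc
  refine ⟨P, hP, p, hp, hpc, fun j Y y γ => ?_, fun j => ⟨(he j).choose⟩⟩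
  obtain ⟨e, he⟩ := he j
  by_cases hw : γ ≫ G.hom = y ≫ f j ≫ M.hom
  · let Z : Over M.left := Over.mk (y ≫ f j)
    let a : Z ⟶ Over.mk (f j) := Over.homMk y
    let g : Z ⟶ Red.bc M.hom G := Over.homMk (pullback.lift γ (y ≫ f j) (by rw [hw, Category.assoc]))
      (pullback.lift_snd _ _ _)
    have hg : g.left ≫ pullback.fst G.hom M.hom = γ := pullback.lift_fst _ _ _
    have k1 := memAt_tt M f t j a g
    rw [hg] at k1
    rw [Category.comp_id]
    refine Iff.trans ?_ k1
    have k2 : MemAt (tt M f t j) a g ↔ MemAt ((Over.pullback (f j)).map p) a g := by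
      rw [memAt_iff, memAt_iff]
      constructor
      · rintro ⟨x, hx⟩
        exact ⟨x ≫ (RedIso.und e).hom, by rw [Category.assoc, he, hx]⟩
      · rintro ⟨x, hx⟩
        exact ⟨x ≫ (RedIso.und e).inv, by rw [← he, Category.assoc, Iso.inv_hom_id_assoc, hx]⟩
    rw [k2, memAt_map]
    constructor
    · rintro ⟨x, hx1, hx2⟩
      refine ⟨Over.homMk x hx1, ?_⟩
      ext1
      apply pullback.hom_ext
      · rw [hg, ← hx2]
        exact Category.assoc x p.left _
      · have e3 : p.left ≫ pullback.snd G.hom M.hom = P.hom := Over.w p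
        have e4 : g.left ≫ pullback.snd G.hom M.hom = y ≫ f j := Over.w g
        rw [e4]
        exact (Category.assoc x p.left _).trans ((congrArg (x ≫ ·) e3).trans hx1)
    · rintro ⟨x, hx⟩
      refine ⟨x.left, Over.w x, ?_⟩
      rw [← hg, ← hx, Over.comp_left, Category.assoc]
  · constructor
    · intro h
      exact (hw (by rw [h.w, Category.assoc])).elim
    · intro h
      exact (hw (by rw [h.w, Category.comp_id])).elim

omit [GrpObj G] in
/-- **The classifying morphism.** -/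
theorem existsUnique_classifying (hf : EtHom.IsCov f) [∀ j, Mono (t j)]
    (heq : ∀ (i j : J) (Z : Scheme.{u}) (a : Z ⟶ X i) (b : Z ⟶ X j), a ≫ f i ≫ M.hom = b ≫ f j ≫ M.hom →
      Same (t i) (t j) a b → a ≫ f i = b ≫ f j)
    {P : Over M.left} (p : P ⟶ Red.bc M.hom G) [Mono p] (hp : ∀ j, Same p (t j) (f j) (𝟙 _))
    {S' : Scheme.{u}} (f' : S' ⟶ S) {K : Over S'} (k : K ⟶ Red.bc f' G) [Mono k]
    {I : Type u} (V : I → Scheme.{u}) (c : ∀ i, V i ⟶ S') (hfl : ∀ i, Flat (c i))
    (hlfp : ∀ i, LocallyOfFinitePresentation (c i)) (hs : ∀ x : S', ∃ i, x ∈ Set.range (c i))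
    (σ : I → J) (a : ∀ i, V i ⟶ X (σ i)) (ha : ∀ i, a i ≫ f (σ i) ≫ M.hom = c i ≫ f')
    (hk : ∀ i, Same k (t (σ i)) (c i) (a i)) :
    ∃! v : S' ⟶ M.left, v ≫ M.hom = f' ∧ Same k p (𝟙 _) v := by
  have hp' : ∀ j {Z : Scheme.{u}} (a : Z ⟶ X j), Same p (t j) (a ≫ f j) a := fun j Z a => by
    have := (hp j).comp a
    rwa [Category.comp_id] at this
  obtain ⟨v, hv, -⟩ := AdFppf.glueScheme V c hfl hlfp hs (fun i => a i ≫ f (σ i)) (fun i j W w w' hw => by
    have h1 : Same (t (σ i)) (t (σ j)) (w ≫ a i) (w' ≫ a j) := by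
      have h2 := ((hk i).comp w).symm
      have h3 := (hk j).comp w'
      rw [← hw] at h3
      exact h2.trans h3
    have := heq _ _ _ _ _ (by
      rw [Category.assoc, ha, Category.assoc, ha, ← Category.assoc, hw, Category.assoc]) h1
    simpa only [Category.assoc] using this)
  have hv' : ∀ i, c i ≫ v ≫ M.hom = c i ≫ f' := fun i => by
    rw [← Category.assoc, hv, Category.assoc, ha]
  have hvM : v ≫ M.hom = f' :=
    (AdFppf.glueScheme V c hfl hlfp hs (fun i => c i ≫ f')
      (fun i j W a b hab => by rw [← Category.assoc, hab, Category.assoc])).unique hv' (fun i => rfl)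
  refine ⟨v, ⟨hvM, ?_⟩, ?_⟩
  · refine Same.of_cover (by rw [hvM, Category.id_comp]) V c hfl hlfp hs fun i => ?_
    rw [Category.comp_id, hv]
    exact (hk i).trans (hp' _ _).symm
  · rintro v' ⟨hv'M, hv's⟩
    -- it is enough to compare on the `V i`, and then on the covering `V i ×_M X j`
    refine (AdFppf.glueScheme V c hfl hlfp hs (fun i => a i ≫ f (σ i)) (fun i j W w w' hw => by
      rw [← hv, ← hv, ← Category.assoc, hw, Category.assoc])).unique (fun i => ?_) hv
    let W : J → Scheme.{u} := fun j => pullback (c i ≫ v') (f j)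
    have hfl2 := hf.flat
    have hlfp2 := hf.lfp
    refine (AdFppf.glueScheme W (fun j => pullback.fst (c i ≫ v') (f j)) (fun j => inferInstance)
      (fun j => inferInstance) (fun x => ?_) (fun j => pullback.fst (c i ≫ v') (f j) ≫ a i ≫ f (σ i))
      (fun j j' U w w' hw => by rw [← Category.assoc, hw, Category.assoc])).unique (fun j => ?_) (fun j => rfl)
    · obtain ⟨j, z, hz⟩ := hf.surj ((c i ≫ v') x)
      obtain ⟨y, hy, -⟩ := Scheme.Pullback.exists_preimage_pullback x z hz.symm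
      exact ⟨j, y, hy⟩
    · have e : pullback.fst (c i ≫ v') (f j) ≫ c i ≫ v' = pullback.snd (c i ≫ v') (f j) ≫ f j := pullback.condition
      change pullback.fst (c i ≫ v') (f j) ≫ c i ≫ v' = pullback.fst (c i ≫ v') (f j) ≫ a i ≫ f (σ i)
      rw [e]
      have h1 : Same (t j) (t (σ i)) (pullback.snd (c i ≫ v') (f j)) (pullback.fst (c i ≫ v') (f j) ≫ a i) := by
        have h2 := (hv's.comp (pullback.fst (c i ≫ v') (f j) ≫ c i)).symm
        have h3 := (hk i).comp (pullback.fst (c i ≫ v') (f j))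
        rw [Category.comp_id, Category.assoc, e] at h2
        exact (hp' j _).symm.trans (h2.trans h3)
      have h4 := heq _ _ _ _ _ (by
        rw [Category.assoc, ha, ← Category.assoc, ← e, Category.assoc, Category.assoc, hv'M]) h1
      rw [h4, Category.assoc]

end univ

end K204.SubRep
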