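import Groth.Agent.SGA3x.K204.FinMTLoc
import Groth.Agent.SGA3x.K204.SubRep
import Mathlib.AlgebraicGeometry.ZariskisMainTheorem

/-!
# Families of subgroups isomorphic to `D(Γ)`

* `Idx`, `Gp`: isomorphism types of finite commutative groups;
* `exists_fam`: the subgroup of `bc P.hom G` defined by a representing family `χ : D(Γ) ⊗ P ⟶ G`;
* `exists_point`: a subgroup isomorphic to `D(Γ)` is a pullback of the family.
-/

set_option autoImplicit false
universe u
open CategoryTheory MonoidalCategory CartesianMonoidalCategory MonObj GrpObj AlgebraicGeometry Limits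

namespace K204.FinMTFam

open Groth.Agent Groth.Agent.SGA3x.K5.Clopen Groth.Agent.Sga3B Groth.Agent.Sga3B.BcPts Groth.Agent.Sga3B.MT
  Groth.Agent.Redsub.H649.ConjPts K204.MonoScheme K204.FinMTLoc K204.SubRep

/-! ### isomorphism types of finite commutative groups -/

/-- a commutative group structure on some `Fin n` -/
def Pre : Type := Σ n : ℕ, AddCommGroup (Fin n)

/-- the underlying type -/
def Pre.Carrier (a : Pre) : Type := Fin a.1

instance (a : Pre) : AddCommGroup a.Carrier := a.2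

instance (a : Pre) : Finite a.Carrier := inferInstanceAs (Finite (Fin a.1))

/-- isomorphism -/
def preSetoid : Setoid Pre where
  r a b := Nonempty (a.Carrier ≃+ b.Carrier)
  iseqv :=
    { refl := fun _ => ⟨AddEquiv.refl _⟩
      symm := fun ⟨e⟩ => ⟨e.symm⟩
      trans := fun ⟨e⟩ ⟨e'⟩ => ⟨e.trans e'⟩ }

/-- isomorphism types of finite commutative groups -/
def Idx : Type := Quotient preSetoid

/-- a group of the given type -/
noncomputable def Gp (i : Idx) : Type := (Quotient.out (s := preSetoid) i).Carrier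

noncomputable instance (i : Idx) : AddCommGroup (Gp i) :=
  inferInstanceAs (AddCommGroup (Quotient.out (s := preSetoid) i).Carrier)

instance (i : Idx) : Finite (Gp i) := inferInstanceAs (Finite (Quotient.out (s := preSetoid) i).Carrier)

lemma exists_idx (N : Type) [AddCommGroup N] [Finite N] : ∃ i : Idx, Nonempty (N ≃+ Gp i) := by
  let e : N ≃ Fin (Nat.card N) := Finite.equivFin N
  let a : Pre := ⟨Nat.card N, e.symm.addCommGroup⟩
  have h1 : Nonempty (N ≃+ a.Carrier) := ⟨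
    { toEquiv := e
      map_add' := fun x y => by
        change e (x + y) = e (e.symm (e x) + e.symm (e y))
        rw [Equiv.symm_apply_apply, Equiv.symm_apply_apply] }⟩
  refine ⟨Quotient.mk preSetoid a, ?_⟩
  obtain ⟨e1⟩ := h1
  obtain ⟨e2⟩ : Nonempty ((Quotient.out (s := preSetoid) (Quotient.mk preSetoid a)).Carrier ≃+ a.Carrier) :=
    Quotient.exact (s := preSetoid) (Quotient.out_eq (s := preSetoid) (Quotient.mk preSetoid a))
  exact ⟨e1.trans e2.symm⟩

lemma idx_eq {i j : Idx} (h : Nonempty (Gp i ≃+ Gp j)) : i = j := by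
  have h1 : Quotient.mk preSetoid (Quotient.out (s := preSetoid) i) =
      Quotient.mk preSetoid (Quotient.out (s := preSetoid) j) := Quotient.sound (s := preSetoid) h
  rwa [Quotient.out_eq, Quotient.out_eq] at h1

variable {S : Scheme.{u}} {G : Over S} [GrpObj G]

lemma isFinite_DS (S : Scheme.{u}) (Γ : Type) [AddCommGroup Γ] [Finite Γ] : IsFinite (Red.DS S Γ).hom := by
  have h1 : IsFinite (Red.diag (ULift.{u} ℤ) Γ).hom := by
    change IsFinite (Spec.map (CommRingCat.ofHom (algebraMap _ _)))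
    rw [IsFinite.SpecMap_iff]
    have : Finite (Multiplicative Γ) := inferInstanceAs (Finite Γ)
    exact RingHom.finite_algebraMap.mpr (Module.Finite.of_basis (MonoidAlgebra.basis (Multiplicative Γ) (ULift.{u} ℤ)))
  exact MorphismProperty.pullback_snd (P := @IsFinite) _ _ h1

omit [GrpObj G] in
lemma same_of_over {S₁ S₂ : Scheme.{u}} {f₁ : S₁ ⟶ S} {f₂ : S₂ ⟶ S} {H₁ : Over S₁} {H₂ : Over S₂}
    {h₁ : H₁ ⟶ Red.bc f₁ G} {h₂ : H₂ ⟶ Red.bc f₂ G} {X : Over S} (y₁ : X.left ⟶ S₁) (y₂ : X.left ⟶ S₂)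
    (w₁ : y₁ ≫ f₁ = X.hom) (w₂ : y₂ ≫ f₂ = X.hom)
    (H : ∀ (Y : Over S) (y : Y ⟶ X) (γ : Y ⟶ G), Pt h₁ (y.left ≫ y₁) γ.left ↔ Pt h₂ (y.left ≫ y₂) γ.left) :
    Same h₁ h₂ y₁ y₂ := by
  intro Y y γ
  by_cases hw : γ ≫ G.hom = y ≫ X.hom
  · exact H (Over.mk (y ≫ X.hom)) (Over.homMk y rfl) (Over.homMk γ hw)
  · exact ⟨fun h => (hw (by rw [h.w, Category.assoc, w₁])).elim,
      fun h => (hw (by rw [h.w, Category.assoc, w₂])).elim⟩

lemma st_eq {P X : Over S} (a : X ⟶ P) : st (Over.mk a.left) = (overIso (f := P.hom) a).hom ≫ a := by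
  ext1
  exact (Category.id_comp _).symm

/-- **The family of subgroups.** -/
theorem exists_fam {Γ : Type} [AddCommGroup Γ] [Finite Γ] {P : Over S} {χ : Red.DS S Γ ⊗ P ⟶ G} (hχ : Rep χ)
    [IsAffineHom G.hom] {h : P.left ⟶ S} (hh : h = P.hom) :
    ∃ (T : Over P.left) (_ : GrpObj T) (t : T ⟶ Red.bc h G), IsMonHom t ∧ IsClosedImmersion t.left ∧ Mono t ∧
      IsFinite T.hom ∧ SGA3x.IsMultTypeFT T ∧ ∀ (X : Over S) (a : X ⟶ P) (γ : X ⟶ G),
        Pt t a.left γ.left ↔ ∃ d, lift d a ≫ χ = γ := by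
  subst hh
  have hfin := isFinite_DS S Γ
  have hfg : AddGroup.FG Γ := inferInstance
  have hm := isMonHom_famMap hχ.hom
  have hmt : SGA3x.IsMultTypeFT (Red.DS S Γ) := _root_.K10.MTLoc.of_split hfg ⟨Iso.refl _⟩
  have h1 : IsFinite (Red.bc P.hom (Red.DS S Γ)).hom := MorphismProperty.pullback_snd (P := @IsFinite) _ _ hfin
  have h2 : Mono (famMap χ) := by
    refine K12.TrivKer.mono_of_ker (A := Red.bc P.hom (Red.DS S Γ)) (B := Red.bc P.hom G) (famMap χ) fun T x hx => ?_
    have h3 := (triv_iff χ (𝟙 P)).1 (hχ.triv.comp (𝟙 P))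
    exact h3 T T.hom (Category.comp_id _) x hx
  have h3 : IsClosedImmersion (famMap χ).left := by
    have h4 : (famMap χ).left ≫ (Red.bc P.hom G).hom = (Red.bc P.hom (Red.DS S Γ)).hom := Over.w _
    have h5 : IsProper ((famMap χ).left ≫ (Red.bc P.hom G).hom) := by rw [h4]; infer_instance
    have h6 : IsSeparated (Red.bc P.hom G).hom := inferInstanceAs (IsSeparated (pullback.snd _ _))
    have h7 : IsProper (famMap χ).left := IsProper.of_comp (famMap χ).left (Red.bc P.hom G).hom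
    rw [IsClosedImmersion.iff_isProper_and_mono]
    exact ⟨h7, inferInstance⟩
  refine ⟨Red.bc P.hom (Red.DS S Γ), inferInstance, famMap χ, hm, h3, h2, h1, _root_.K10.MTLoc.bc _ hmt,
    fun X a γ => ?_⟩
  refine (memAt_iff_pt (f := P.hom) (famMap χ) a γ).symm.trans ?_
  constructor
  · rintro ⟨x, hx⟩
    rw [comp_famMap (X := P) χ x] at hx
    have h4 := (bcEquiv P.hom _ G).injective hx
    rw [st_eq a] at h4
    refine ⟨(overIso (f := P.hom) a).inv ≫ (bcEquiv P.hom (Over.mk a.left) (Red.DS S Γ)).symm x, ?_⟩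
    rw [← cancel_epi (overIso (f := P.hom) a).hom, ← h4, ← Category.assoc, comp_lift, Iso.hom_inv_id_assoc]
  · rintro ⟨d, hd⟩
    refine ⟨bcEquiv P.hom (Over.mk a.left) (Red.DS S Γ) ((overIso (f := P.hom) a).hom ≫ d), ?_⟩
    rw [comp_famMap (X := P) χ, Equiv.symm_apply_apply, st_eq a, ← comp_lift, Category.assoc, hd]

/-- A subgroup isomorphic to `bc h H` as a family. -/
theorem exists_family {H : Over S} [GrpObj H] {P : Scheme.{u}} {h : P ⟶ S} {T : Over P} [GrpObj T]
    (t : T ⟶ Red.bc h G) [IsMonHom t] [Mono t] (α : Grp.mk (Red.bc h H) ≅ Grp.mk T) :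
    ∃ χ : H ⊗ Over.mk h ⟶ G, AutFam.IsHomFamily H G χ ∧ Triv χ ∧
      ∀ (X : Over S) (a : X ⟶ Over.mk h) (γ : X ⟶ G), Pt t a.left γ.left ↔ ∃ d, lift d a ≫ χ = γ := by
  let β : Red.bc h H ⟶ T := α.hom.hom.hom
  have hβ : IsMonHom β := inferInstanceAs (IsMonHom α.hom.hom.hom)
  have hβi : IsIso β := inferInstanceAs (IsIso ((Grp.forget _).map α.hom))
  let φ : Red.bc h H ⟶ Red.bc h G := β ≫ t
  have hφ : IsMonHom φ := inferInstance
  have hφm : Mono φ := inferInstance
  refine ⟨fam φ, fun X d d' x => ?_, fun X d x hd => ?_, fun X a γ => ?_⟩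
  · rw [lift_fam, lift_fam, lift_fam]
    exact ev_mul φ d d' x
  · rw [lift_fam, ev] at hd
    have h1 : (bcEquiv h (Over.mk x.left) G).symm (bcEquiv h (Over.mk x.left) H ((overIso x).hom ≫ d) ≫ φ) = 1 := by
      rw [← cancel_epi (overIso x).inv, hd, comp_one]
    have h2 : bcEquiv h (Over.mk x.left) H ((overIso x).hom ≫ d) ≫ φ = 1 := by
      rw [Equiv.symm_apply_eq] at h1
      rw [h1]
      exact (bcMulEquiv h (Over.mk x.left) G).map_one
    have h3 : bcEquiv h (Over.mk x.left) H ((overIso x).hom ≫ d) = 1 := by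
      rw [← cancel_mono φ, h2]
      exact (MonObj.one_comp φ).symm
    have h4 : (overIso x).hom ≫ d = 1 := (bcMulEquiv h (Over.mk x.left) H).injective
      (h3.trans (bcMulEquiv h (Over.mk x.left) H).map_one.symm)
    rw [← cancel_epi (overIso x).hom, h4, comp_one]
  · rw [← memAt_iff_pt]
    constructor
    · rintro ⟨y, hy⟩
      refine ⟨(overIso a).inv ≫ (bcEquiv h (Over.mk a.left) H).symm (y ≫ inv β), ?_⟩
      rw [lift_fam, ev, Iso.hom_inv_id_assoc, Equiv.apply_symm_apply]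
      have : (y ≫ inv β) ≫ φ = y ≫ t := by
        change (y ≫ inv β) ≫ β ≫ t = y ≫ t
        rw [Category.assoc, IsIso.inv_hom_id_assoc]
      rw [this, hy, Equiv.symm_apply_apply, Iso.inv_hom_id_assoc]
    · rintro ⟨d, hd⟩
      rw [lift_fam, ev] at hd
      refine ⟨bcEquiv h (Over.mk a.left) H ((overIso a).hom ≫ d) ≫ β, ?_⟩
      rw [Iso.inv_comp_eq] at hd
      rw [← hd, Equiv.apply_symm_apply, Category.assoc]

lemma und_bcCompIso_symm_hom {S' S'' : Scheme.{u}} (q : S'' ⟶ S') (f : S' ⟶ S) :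
    (BcIso.bcCompIso q f G).symm.hom.hom.hom = (Over.pullbackComp q f).inv.app G := by
  have h1 := BcNat.und_bcCompIso q f G
  have h2 : (RedIso.und (BcIso.bcCompIso q f G).symm).hom ≫
      (RedIso.und (BcIso.bcCompIso q f G)).hom = 𝟙 _ := (RedIso.und (BcIso.bcCompIso q f G)).inv_hom_id
  rw [h1] at h2
  have h3 : (Over.pullbackComp q f).inv.app G ≫ (Over.pullbackComp q f).hom.app G = 𝟙 _ :=
    (Over.pullbackComp q f).inv_hom_id_app G
  rw [← cancel_mono ((Over.pullbackComp q f).hom.app G)]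
  exact h2.trans h3.symm

/-- **Subgroups isomorphic to `D(Γ)` are pullbacks of the family.** -/
theorem exists_point {Γ : Type} [AddCommGroup Γ] {P : Over S} {χ : Red.DS S Γ ⊗ P ⟶ G} (hχ : Rep χ)
    {h : P.left ⟶ S} (hh : h = P.hom) {T : Over P.left} (t : T ⟶ Red.bc h G)
    (ht : ∀ (X : Over S) (a : X ⟶ P) (γ : X ⟶ G), Pt t a.left γ.left ↔ ∃ d, lift d a ≫ χ = γ)
    {S' : Scheme.{u}} {f : S' ⟶ S} {K : Over S'} [GrpObj K] (k : K ⟶ Red.bc f G) [IsMonHom k] [Mono k]
    {V : Scheme.{u}} (v : V ⟶ S') (e : Grp.mk (Red.bc v K) ≅ Grp.mk (Red.DS V Γ)) :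
    ∃ a : V ⟶ P.left, a ≫ h = v ≫ f ∧ Same k t v a := by
  subst hh
  have h1 : IsMonHom (bcSub v k) := by
    rw [bcSub, ← und_bcCompIso_symm_hom]
    have : IsMonHom (BcIso.bcCompIso v f G).symm.hom.hom.hom := inferInstance
    infer_instance
  have h2 : Mono (bcSub v k) := by
    have : IsIso ((Over.pullbackComp v f).inv.app G) := inferInstance
    have h3 : Mono ((Over.pullback v).map k) := inferInstance
    rw [bcSub]
    infer_instance
  obtain ⟨φ, p1, p2, p3⟩ := exists_family (H := Red.DS S Γ) (bcSub v k)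
    (TorusAlgClosed.dsBcIso (v ≫ f) Γ ≪≫ e.symm)
  obtain ⟨a, ha, -⟩ := hχ.rep _ φ p1 p2
  refine ⟨a.left, Over.w a, ?_⟩
  refine same_of_over (X := Over.mk (v ≫ f)) v a.left rfl (Over.w a) fun Y y γ => ?_
  rw [← Over.comp_left, ht Y (y ≫ a) γ]
  have h4 : Pt k (y.left ≫ v) γ.left ↔ Pt (bcSub v k) y.left γ.left := by
    rw [← memAt_iff_pt (bcSub v k) y γ, memAt_bcSub, memAt_iff_pt]
    rfl
  rw [h4, p3, ← ha]
  refine exists_congr fun d => ?_
  rw [lift_whisker]

end K204.FinMTFam
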