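import Groth.Agent.RedSub.H647.FreeQ
import Groth.Agent.S0114

/-!
# Free quotients by finite groups of schemes which are affine over the base

`exists_freeQuot`: `Q` affine over `S` with an action of a finite group `Γ` over `S`, free on geometric points: the
quotient `p : Q ⟶ M` exists, `M` is affine over `S`, and locally of finite presentation if `Q` is.
-/

set_option autoImplicit false
universe u
open CategoryTheory CategoryTheory.Limits AlgebraicGeometry

namespace K204.FinQuot

open Groth.Agent Groth.Agent.Sga1 Groth.Agent.Sga3B Groth.Agent.RedSub.H647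

variable {S : Scheme.{u}} (Q : Over S) {Γ : Type u} [Group Γ] [Finite Γ]

/-- **Free quotients** over a base. -/
theorem exists_freeQuot [IsAffineHom Q.hom] (ρ : Γ →* Aut Q)
    (hfree : ∀ (K : Type u) [Field K] [IsAlgClosed K] (ξ : Spec (CommRingCat.of K) ⟶ Q.left) (g : Γ),
      ξ ≫ (ρ g).hom.left = ξ → g = 1) :
    ∃ (M : Over S) (p : Q ⟶ M), Etale p.left ∧ Surjective p.left ∧ IsFinite p.left ∧ IsAffineHom M.hom ∧
      (LocallyOfFinitePresentation Q.hom → LocallyOfFinitePresentation M.hom) ∧ (∀ g, (ρ g).hom ≫ p = p) ∧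
      ∀ (T : Scheme.{u}) (x y : T ⟶ Q.left), x ≫ p.left = y ≫ p.left → ∀ t : T, ∃ U : T.Opens, t ∈ U ∧
        ∃ g, U.ι ≫ y = U.ι ≫ x ≫ (ρ g).hom.left := by
  let ρ₀ : Γ →* Aut Q.left := ((Over.forget S).mapAut Q).comp ρ
  have hρ₀ : ∀ g, (ρ₀ g).hom = (ρ g).hom.left := fun g => rfl
  have hfree₀ : FreeQuotSch.IsFree ρ₀ := fun K _ _ ξ g h => hfree K ξ g h
  obtain ⟨Y, p, hp⟩ := QuotExists.exists_isQuot ρ₀ fun x => by
    obtain ⟨_, ⟨V, hV, rfl⟩, hx, -⟩ := S.isBasis_affineOpens.exists_subset_of_mem_open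
      (Set.mem_univ (Q.hom x)) isOpen_univ
    refine ⟨Q.hom ⁻¹ᵁ V, hV.preimage Q.hom, fun g => ?_⟩
    change Q.hom ((ρ g).hom.left x) ∈ V
    rw [← Scheme.Hom.comp_apply, Over.w]
    exact hx
  have := FreeQuotSch.etale_of_isFree hp hfree₀
  have := FreeQuotSch.finite_of_isFree hp hfree₀
  have := FreeQuotSch.surjective_of_isQuot hp
  -- the structure morphism
  obtain ⟨s, hs, -⟩ := AdFppf.glueScheme (X := Y) (Y := S) (I := PUnit.{u+1}) (fun _ => Q.left) (fun _ => p)
    (fun _ => inferInstance) (fun _ => inferInstance) (fun y => ⟨⟨⟩, p.surjective y⟩) (fun _ => Q.hom) (by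
      intro _ _ W a b hab
      choose U hU g hg using fun w : W => FreeQ.exists_local hp hfree₀ a b hab w
      let 𝒰 : Scheme.OpenCover.{u} W := Scheme.openCoverOfIsOpenCover W U (by
        rw [TopologicalSpace.IsOpenCover, eq_top_iff]
        intro w _
        exact TopologicalSpace.Opens.mem_iSup.2 ⟨w, hU w⟩)
      refine Scheme.Cover.hom_ext 𝒰 _ _ fun w => ?_
      change (U w).ι ≫ a ≫ Q.hom = (U w).ι ≫ b ≫ Q.hom
      rw [← Category.assoc _ b, hg w, hρ₀, Category.assoc, Category.assoc, Over.w])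
  have hsp : p ≫ s = Q.hom := hs ⟨⟩
  let M : Over S := Over.mk s
  let p' : Q ⟶ M := Over.homMk p hsp
  have haff : IsAffineHom s := QuotAffine.isAffineHom_of_isQuot hp hsp
  refine ⟨M, p', ‹_›, ‹_›, ‹_›, haff, fun hQ => ?_, fun g => ?_, ?_⟩
  · have hsm : LocallyOfFinitePresentation (p ≫ s) := by rw [hsp]; exact hQ
    exact Groth.Agent.S0114.result p s
  · apply Over.OverMorphism.ext
    exact hp.inv g
  · intro T x y hxy t
    exact FreeQ.exists_local hp hfree₀ x y hxy t

end K204.FinQuot
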