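import Groth.Agent.SGA3x.K204.MonoScheme
import Groth.Agent.SGA3x.K204.FinQuot
import Groth.Agent.SGA3x.K6.HomDS
import Mathlib.Algebra.Group.ULift

/-!
# Quotient of the scheme of monomorphisms `D(Γ) ⟶ G` by the automorphisms of `Γ`

* `exists_near_equiv`: two families of monomorphisms `D(Γ) ⟶ G`, `D(Δ) ⟶ G` with the same images are, near every point
  of the parameter scheme, related by an isomorphism `Δ ≃+ Γ`;
* `exists_quot`: the quotient of the scheme of monomorphisms `D(Γ) ⟶ G`, `Γ` finite, by `Aut(Γ)`.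
-/

set_option autoImplicit false
universe u
open CategoryTheory MonoidalCategory CartesianMonoidalCategory MonObj GrpObj AlgebraicGeometry Limits

namespace K204.FinMTLoc

open Groth.Agent Groth.Agent.SGA3x.K5.Clopen Groth.Agent.Sga3B K204.MonoScheme

variable {S : Scheme.{u}} {G : Over S} [GrpObj G]

section near

variable {Γ Δ : Type} [AddCommGroup Γ] [AddCommGroup Δ] {X : Over S}

omit [GrpObj G] in
lemma transport {χ₁ : Red.DS S Γ ⊗ X ⟶ G} {χ₂ : Red.DS S Δ ⊗ X ⟶ G} {θ : Red.DS S Γ ⊗ X ⟶ Red.DS S Δ}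
    (hθ : lift θ (snd _ _) ≫ χ₂ = χ₁) {T : Over S} (d : T ⟶ Red.DS S Γ) (t : T ⟶ X) :
    lift d t ≫ χ₁ = lift (lift d t ≫ θ) t ≫ χ₂ := by
  rw [← hθ, ← Category.assoc, comp_lift, lift_snd]

lemma isHomFamily_of_transport {χ₁ : Red.DS S Γ ⊗ X ⟶ G} {χ₂ : Red.DS S Δ ⊗ X ⟶ G}
    (h₁ : AutFam.IsHomFamily _ G χ₁) (h₂ : AutFam.IsHomFamily _ G χ₂) (t₂ : Triv χ₂)
    {θ : Red.DS S Γ ⊗ X ⟶ Red.DS S Δ} (hθ : lift θ (snd _ _) ≫ χ₂ = χ₁) :
    AutFam.IsHomFamily (Red.DS S Γ) (Red.DS S Δ) θ := by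
  intro T d d' t
  refine t₂.inj h₂ t ?_
  rw [← transport hθ, h₁, h₂, ← transport hθ, ← transport hθ]

end near

variable {Γ Δ : Type} [AddCommGroup Γ] [AddCommGroup Δ]

/-- Families of monomorphisms with the same images are locally related by an isomorphism. -/
theorem exists_near_equiv [Module.Finite ℤ Γ] [Module.Finite ℤ Δ] {Z : Scheme.{u}} (z : Z ⟶ S)
    (χ₁ : Red.DS S Γ ⊗ Over.mk z ⟶ G) (χ₂ : Red.DS S Δ ⊗ Over.mk z ⟶ G)
    (h₁ : AutFam.IsHomFamily _ G χ₁) (h₂ : AutFam.IsHomFamily _ G χ₂) (t₁ : Triv χ₁) (t₂ : Triv χ₂)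
    (hsame : ∀ (T : Over S) (t : T ⟶ Over.mk z) (γ : T ⟶ G),
      (∃ d, lift d t ≫ χ₁ = γ) ↔ (∃ d, lift d t ≫ χ₂ = γ)) (s : Z) :
    ∃ U : Z.Opens, s ∈ U ∧ ∃ ε : Δ ≃+ Γ, ∀ (T : Over S) (d : T ⟶ Red.DS S Γ) (t : T ⟶ Over.mk z),
      Set.range t.left ⊆ (U : Set Z) →
        lift d t ≫ χ₁ = lift (d ≫ Red.DSmap S ε.toAddMonoidHom) t ≫ χ₂ := by
  obtain ⟨θ, hθ⟩ := (hsame (Red.DS S Γ ⊗ Over.mk z) (snd _ _) χ₁).1 ⟨fst _ _, by
    rw [lift_fst_snd, Category.id_comp]⟩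
  obtain ⟨θ', hθ'⟩ := (hsame (Red.DS S Δ ⊗ Over.mk z) (snd _ _) χ₂).2 ⟨fst _ _, by
    rw [lift_fst_snd, Category.id_comp]⟩
  obtain ⟨U₁, hs₁, φ, hφ⟩ := K6.HomDS.exists_near_family z θ (isHomFamily_of_transport h₁ h₂ t₂ hθ) s
  obtain ⟨U₂, hs₂, ψ, hψ⟩ := K6.HomDS.exists_near_family z θ' (isHomFamily_of_transport h₂ h₁ t₁ hθ') s
  let U := U₁ ⊓ U₂
  let T : Over S := Over.mk (U.ι ≫ z)
  let j : T ⟶ Over.mk z := Over.homMk U.ι rfl
  have hr : ∀ {T' : Over S} (b : T' ⟶ T), Set.range (b ≫ j).left ⊆ (U : Set Z) := by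
    rintro T' b _ ⟨y, rfl⟩
    change (b.left ≫ U.ι) y ∈ U
    rw [Scheme.Hom.comp_apply]
    exact (b.left y).2
  have key1 : ∀ {T' : Over S} (d : T' ⟶ Red.DS S Γ) (t : T' ⟶ Over.mk z), Set.range t.left ⊆ (U : Set Z) →
      lift d t ≫ χ₁ = lift (d ≫ Red.DSmap S φ) t ≫ χ₂ := by
    intro T' d t ht
    rw [transport hθ, hφ _ _ _ (ht.trans fun x hx => hx.1)]
  have key2 : ∀ {T' : Over S} (d : T' ⟶ Red.DS S Δ) (t : T' ⟶ Over.mk z), Set.range t.left ⊆ (U : Set Z) →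
      lift d t ≫ χ₂ = lift (d ≫ Red.DSmap S ψ) t ≫ χ₁ := by
    intro T' d t ht
    rw [transport hθ', hψ _ _ _ (ht.trans fun x hx => hx.2)]
  have e1 : φ.comp ψ = AddMonoidHom.id Γ := by
    refine eq_of_DSmap _ _ T ⟨s, hs₁, hs₂⟩ fun T' b q => ?_
    rw [← K7.DSProp.DSmap_comp, K7.DSProp.DSmap_id, Category.comp_id]
    refine (t₁.inj h₁ (b ≫ j) ?_).symm
    rw [key1 q _ (hr b), key2 _ _ (hr b), Category.assoc]
  have e2 : ψ.comp φ = AddMonoidHom.id Δ := by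
    refine eq_of_DSmap _ _ T ⟨s, hs₁, hs₂⟩ fun T' b q => ?_
    rw [← K7.DSProp.DSmap_comp, K7.DSProp.DSmap_id, Category.comp_id]
    refine (t₂.inj h₂ (b ≫ j) ?_).symm
    rw [key2 q _ (hr b), key1 _ _ (hr b), Category.assoc]
  refine ⟨U, ⟨hs₁, hs₂⟩, AddMonoidHom.toAddEquiv φ ψ e2 e1, fun T' d t ht => ?_⟩
  exact key1 d t ht

section act

variable {P : Over S} {χ : Red.DS S Γ ⊗ P ⟶ G}

/-- `χ` represents the functor of families with trivial kernels. -/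
structure Rep (χ : Red.DS S Γ ⊗ P ⟶ G) : Prop where
  hom : AutFam.IsHomFamily (Red.DS S Γ) G χ
  triv : Triv χ
  rep : ∀ (X : Over S) (φ : Red.DS S Γ ⊗ X ⟶ G), AutFam.IsHomFamily (Red.DS S Γ) G φ → Triv φ →
    ∃! a : X ⟶ P, (Red.DS S Γ ◁ a) ≫ χ = φ

lemma Rep.ext (h : Rep χ) {X : Over S} (a b : X ⟶ P)
    (H : ∀ (T : Over S) (t : T ⟶ X) (d : T ⟶ Red.DS S Γ), lift d (t ≫ a) ≫ χ = lift d (t ≫ b) ≫ χ) : a = b := by
  refine (h.rep X ((Red.DS S Γ ◁ a) ≫ χ) (isHomFamily_comp h.hom a) (h.triv.comp a)).unique rfl ?_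
  have := H _ (snd (Red.DS S Γ) X) (fst _ _)
  rw [← lift_whisker, ← lift_whisker, lift_fst_snd, Category.id_comp, Category.id_comp] at this
  exact this.symm

lemma isMonHom_DSmap (ε : Γ →+ Γ) : IsMonHom (Red.DSmap S ε) := K6.HomDS.isMonHom_DSmap S ε

lemma exists_act (h : Rep χ) (ε : Γ ≃+ Γ) : ∃ a : P ⟶ P, ∀ (T : Over S) (t : T ⟶ P) (d : T ⟶ Red.DS S Γ),
    lift d (t ≫ a) ≫ χ = lift (d ≫ Red.DSmap S ε.toAddMonoidHom) t ≫ χ := by
  have hl : ∀ {T : Over S} (t : T ⟶ P) (d : T ⟶ Red.DS S Γ),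
      lift d t ≫ (Red.DSmap S ε.toAddMonoidHom ▷ P) ≫ χ = lift (d ≫ Red.DSmap S ε.toAddMonoidHom) t ≫ χ := by
    intro T t d
    rw [← Category.assoc, lift_whiskerRight]
  have hm := isMonHom_DSmap (S := S) ε.toAddMonoidHom
  have hi : IsIso (Red.DSmap S ε.toAddMonoidHom) := K7.DSProp.isIso_DSmap S _ ε.bijective
  obtain ⟨a, ha, -⟩ := h.rep P ((Red.DSmap S ε.toAddMonoidHom ▷ P) ≫ χ)
    (fun T d d' t => by
      have e : (d * d') ≫ Red.DSmap S ε.toAddMonoidHom =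
        (d ≫ Red.DSmap S ε.toAddMonoidHom) * (d' ≫ Red.DSmap S ε.toAddMonoidHom) := MonObj.mul_comp _ _ _
      rw [hl, hl, hl, e, h.hom])
    (fun T d t hd => by
      rw [hl] at hd
      have := h.triv _ _ _ hd
      have e : (1 : T ⟶ Red.DS S Γ) ≫ Red.DSmap S ε.toAddMonoidHom = 1 := MonObj.one_comp _
      rw [← cancel_mono (Red.DSmap S ε.toAddMonoidHom), this, e])
  refine ⟨a, fun T t d => ?_⟩
  rw [← lift_whisker, ha, hl]

/-- the action of an automorphism -/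
noncomputable def act (h : Rep χ) (ε : Γ ≃+ Γ) : P ⟶ P := (exists_act h ε).choose

lemma act_spec (h : Rep χ) (ε : Γ ≃+ Γ) {T : Over S} (t : T ⟶ P) (d : T ⟶ Red.DS S Γ) :
    lift d (t ≫ act h ε) ≫ χ = lift (d ≫ Red.DSmap S ε.toAddMonoidHom) t ≫ χ := (exists_act h ε).choose_spec T t d

lemma act_refl (h : Rep χ) : act h (AddEquiv.refl Γ) = 𝟙 P := by
  refine h.ext _ _ fun T t d => ?_
  have : Red.DSmap S (AddEquiv.refl Γ).toAddMonoidHom = 𝟙 _ := K7.DSProp.DSmap_id S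
  rw [act_spec, Category.comp_id, this, Category.comp_id]

lemma act_trans (h : Rep χ) (ε ε' : Γ ≃+ Γ) : act h (ε.trans ε') = act h ε ≫ act h ε' := by
  refine h.ext _ _ fun T t d => ?_
  have : Red.DSmap S ε'.toAddMonoidHom ≫ Red.DSmap S ε.toAddMonoidHom =
      Red.DSmap S (ε.trans ε').toAddMonoidHom := K7.DSProp.DSmap_comp S _ _
  rw [act_spec, ← Category.assoc, act_spec, act_spec, Category.assoc, this]

/-- the action of the automorphism group -/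
noncomputable def actHom (h : Rep χ) : ULift.{u} (Multiplicative (AddAut Γ)) →* Aut P where
  toFun ε :=
    { hom := act h ε.down.toAdd
      inv := act h (AddEquiv.symm ε.down.toAdd)
      hom_inv_id := by rw [← act_trans, AddEquiv.self_trans_symm, act_refl]
      inv_hom_id := by rw [← act_trans, AddEquiv.symm_trans_self, act_refl] }
  map_one' := by
    ext1
    exact act_refl h
  map_mul' ε ε' := by
    ext1
    exact act_trans h ε'.down.toAdd ε.down.toAdd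

lemma actHom_free (h : Rep χ) {T : Over S} (z : T.left) (t : T ⟶ P) (ε : Γ ≃+ Γ) (ht : t ≫ act h ε = t) :
    ε = AddEquiv.refl Γ := by
  have : ε.toAddMonoidHom = (AddEquiv.refl Γ).toAddMonoidHom := by
    refine eq_of_DSmap _ _ T z fun T' b q => ?_
    have h2 : Red.DSmap S (AddEquiv.refl Γ).toAddMonoidHom = 𝟙 _ := K7.DSProp.DSmap_id S
    rw [h2, Category.comp_id]
    refine h.triv.inj h.hom (b ≫ t) ?_
    rw [← act_spec h, Category.assoc, ht]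
  ext x
  exact DFunLike.congr_fun this x

end act

/-- **The quotient of the scheme of monomorphisms.** -/
theorem exists_quot (G : Over S) [GrpObj G] [IsAffineHom G.hom] [LocallyOfFinitePresentation G.hom] (Γ : Type)
    [AddCommGroup Γ] [Finite Γ] (hfin : IsFinite (Red.DS S Γ).hom) :
    ∃ (P M : Over S) (χ : Red.DS S Γ ⊗ P ⟶ G) (hχ : Rep χ) (p : P ⟶ M), IsAffineHom P.hom ∧ Etale p.left ∧ Surjective p.left ∧
      IsAffineHom M.hom ∧ LocallyOfFinitePresentation M.hom ∧ (∀ ε, act hχ ε ≫ p = p) ∧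
      ∀ (T : Scheme.{u}) (x y : T ⟶ P.left), x ≫ p.left = y ≫ p.left → ∀ t : T, ∃ U : T.Opens, t ∈ U ∧
        ∃ ε : Γ ≃+ Γ, U.ι ≫ y = U.ι ≫ x ≫ (act hχ ε).left := by
  have hfg : AddGroup.FG Γ := inferInstance
  obtain ⟨P, χ, h1, h2, h3, h4, h5⟩ := MonoScheme.exists_rep (H := Red.DS S Γ) (G := G)
    (_root_.K10.MTLoc.of_split hfg ⟨Iso.refl _⟩)
  have hχ : Rep χ := ⟨h1, h2, h5⟩
  have : Finite (Multiplicative (AddAut Γ)) := inferInstanceAs (Finite (Γ ≃+ Γ))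
  obtain ⟨M, p, m1, m2, -, m3, m4, m5, m6⟩ := FinQuot.exists_freeQuot P (actHom hχ) (by
    intro K _ _ ξ g hg
    let T : Over S := Over.mk (ξ ≫ P.hom)
    let t : T ⟶ P := Over.homMk ξ rfl
    have h6 := actHom_free hχ (T := T) (default : Spec (CommRingCat.of K)) t g.down.toAdd (by
      ext1
      exact hg)
    exact ULift.ext _ _ h6)
  refine ⟨P, M, χ, hχ, p, h3, m1, m2, m3, m4 h4, fun ε => m5 ⟨Multiplicative.ofAdd ε⟩, fun T x y hxy t => ?_⟩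
  obtain ⟨U, hU, g, hg⟩ := m6 T x y hxy t
  exact ⟨U, hU, g.down.toAdd, hg⟩

end K204.FinMTLoc
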