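import Groth.Agent.SGA3x.K12.MonoNhd

/-!
# The locus where a homomorphism from a group of multiplicative type is a monomorphism is open and closed

`exists_clopen`: `H` of multiplicative type and of finite type over `S`, `G` separated over `S`, `S` locally noetherian or
`G` locally of finite presentation, `u : H ⟶ G` a homomorphism: there is an open and closed `W` such that `u` is a
monomorphism after base change along `ρ : S' ⟶ S` if and only if `ρ` has image in `W`.
-/

set_option autoImplicit false
universe u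
open CategoryTheory MonoidalCategory CartesianMonoidalCategory MonObj GrpObj AlgebraicGeometry Limits

namespace K204.MonoClopen

open Groth.Agent Groth.Agent.Sga3.H827 Groth.Agent.Sga3B.DSPts Groth.Agent.Sga3B.InfConj
  Groth.Agent.Sga3B.InfConjFam Groth.Agent.Sga3.H827.KerAlg1 Groth.Agent.Sga3.H827.KerAlg4
  Groth.Agent.Sga3.H827.KerPts Groth.Agent.Sga3.H827.KerLoc K12.TrivKer K12.MonoNhd

section gen

variable {S S' S'' : Scheme.{u}} {H G : Over S} [GrpObj H] [GrpObj G]

/-- Descent along flat surjections. -/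
theorem trivOver_of_comp {ρ : S' ⟶ S} {u : H ⟶ G} (c : S'' ⟶ S') [Flat c] [Surjective c]
    (h : TrivOver (c ≫ ρ) u) : TrivOver ρ u := by
  intro T t ht x hx
  have h3 : Epi (pullback.fst t c) := Flat.epi_of_flat_of_surjective _
  let π : Over.mk (pullback.fst t c ≫ T.hom) ⟶ T := Over.homMk (pullback.fst t c) rfl
  have h4 : π ≫ x = 1 := by
    refine h _ (pullback.snd t c) ?_ _ ?_
    · change _ = pullback.fst t c ≫ T.hom
      rw [← ht, ← Category.assoc, ← pullback.condition, Category.assoc]
    · rw [Category.assoc, hx, comp_one]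
  have h5 : Epi π := by
    have : Epi π.left := h3
    exact Over.epi_of_epi_left _
  rw [← cancel_epi π, h4, comp_one]

/-- Triviality of the kernel is Zariski local. -/
theorem trivOver_of_opens {ρ : S' ⟶ S} {u : H ⟶ G}
    (h : ∀ s' : S', ∃ U : S.Opens, ρ s' ∈ U ∧ TrivOver U.ι u) : TrivOver ρ u := by
  intro T t ht x hx
  choose U hU hU' using h
  let V : T.left → T.left.Opens := fun y => T.hom ⁻¹ᵁ U (t y)
  let 𝒰 : Scheme.OpenCover.{u} T.left := Scheme.openCoverOfIsOpenCover T.left V (by
    rw [TopologicalSpace.IsOpenCover, eq_top_iff]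
    intro y _
    refine TopologicalSpace.Opens.mem_iSup.2 ⟨y, ?_⟩
    change T.hom y ∈ U (t y)
    rw [← ht]
    exact hU (t y))
  ext1
  refine Scheme.Cover.hom_ext 𝒰 _ _ fun y => ?_
  let T' : Over S := Over.mk ((V y).ι ≫ T.hom)
  let j : T' ⟶ T := Over.homMk (V y).ι rfl
  have h1 : j ≫ x = 1 := hU' (t y) T' (T.hom ∣_ (U (t y))) (morphismRestrict_ι _ _) _
    (by rw [Category.assoc, hx, comp_one])
  have h2 : j ≫ x = j ≫ 1 := by rw [h1, comp_one]
  exact congrArg (fun k => k.left) h2

end gen

section aff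

variable {C : Type u} [CommRing C] {M : Type} [AddCommGroup M]
  {G : Over (Spec (CommRingCat.of C))} [GrpObj G] (h : Red.DS (Spec (CommRingCat.of C)) M ⟶ G)

/-- If the kernel is `D(M/N)` over a localisation and trivial over a field valued point of it, then `N = M`. -/
theorem mem_of_trivOver {f : C} {N : AddSubgroup M}
    (hN : ∀ (T : Over (Spec (CommRingCat.of C))),
      (letI := algT T; IsUnit (algebraMap C Γ(T.left, ⊤) f)) → ∀ x : T ⟶ Red.DS (Spec (CommRingCat.of C)) M,
        x ≫ h = 1 ↔ ∀ n ∈ N, dsChar x (Multiplicative.ofAdd n) = 1)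
    (p : Ideal C) [p.IsPrime] (hf : f ∉ p)
    (hp : TrivOver (Spec.map (CommRingCat.ofHom (algebraMap C p.ResidueField))) h) (m : M) : m ∈ N := by
  let κ := p.ResidueField
  let χ : Multiplicative M →* MonoidAlgebra κ (Multiplicative (M ⧸ N)) :=
    (MonoidAlgebra.of κ (Multiplicative (M ⧸ N))).comp (AddMonoidHom.toMultiplicative (QuotientAddGroup.mk' N))
  have hu : IsUnit (algebraMap C (MonoidAlgebra κ (Multiplicative (M ⧸ N))) f) := by
    rw [IsScalarTower.algebraMap_apply C κ]
    refine IsUnit.map _ (isUnit_iff_ne_zero.mpr ?_)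
    rwa [Ne, Ideal.algebraMap_residueField_eq_zero]
  have h1 : charPt (C := C) χ ≫ h = 1 := by
    rw [hN _ (isUnit_pt hu)]
    intro n hn
    change dsChar (dsEquiv _ M _) _ = _
    rw [dsChar_dsEquiv]
    change gPt C _ (χ (Multiplicative.ofAdd n)) = 1
    have h2 : χ (Multiplicative.ofAdd n) = MonoidAlgebra.of κ (Multiplicative (M ⧸ N))
      (Multiplicative.ofAdd (QuotientAddGroup.mk' N n)) := rfl
    have h3 : QuotientAddGroup.mk' N n = 0 := (QuotientAddGroup.eq_zero_iff n).mpr hn
    rw [h2, h3, ofAdd_zero, map_one, map_one]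
  have h2 := hp _ (Spec.map (CommRingCat.ofHom (algebraMap κ (MonoidAlgebra κ (Multiplicative (M ⧸ N)))))) (by
    rw [← Spec.map_comp, ← CommRingCat.ofHom_comp, ← IsScalarTower.algebraMap_eq]
    rfl) _ h1
  have h3 : χ = 1 := charPt_injective (C := C) (h2.trans charPt_one.symm)
  have h4 : MonoidAlgebra.of κ (Multiplicative (M ⧸ N)) (Multiplicative.ofAdd (QuotientAddGroup.mk' N m)) =
    MonoidAlgebra.of κ (Multiplicative (M ⧸ N)) 1 := (DFunLike.congr_fun h3 (Multiplicative.ofAdd m)).trans (map_one _).symm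
  have h5 := MonoidAlgebra.of_injective h4
  exact (QuotientAddGroup.eq_zero_iff m).mp (congrArg Multiplicative.toAdd h5)

/-- **A kernel which is nontrivial at a point is nontrivial nearby.** -/
theorem exists_away_not [IsMonHom h] [AddGroup.FG M] [IsSeparated G.hom]
    (hC : IsNoetherianRing C ∨ LocallyOfFinitePresentation G.hom) (p : Ideal C) [p.IsPrime]
    (hp : ∀ f, f ∉ p → ¬ TrivOver (Spec.map (CommRingCat.ofHom (algebraMap C (Localization.Away f)))) h) :
    ∃ f, f ∉ p ∧ ∀ (q : Ideal C) [q.IsPrime], f ∉ q →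
      ¬ TrivOver (Spec.map (CommRingCat.ofHom (algebraMap C q.ResidueField))) h := by
  obtain ⟨f, hf, N, hN⟩ := exists_local h hC p
  refine ⟨f, hf, fun q _ hq hT => hp f hf fun T t ht x hx => ?_⟩
  have h1 := (hN T (isUnit_away t ht) x).1 hx
  apply (dsEquiv T M).symm.injective
  rw [map_one]
  change dsChar x = 1
  refine MonoidHom.ext fun m => ?_
  exact h1 m.toAdd (mem_of_trivOver h hN q hq hT _)

end aff

section glob

variable {S : Scheme.{u}} {H G : Over S} [GrpObj H] [GrpObj G]

lemma residueField_factor {B : Type u} [CommRing B] (v : Spec (CommRingCat.of B) ⟶ S)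
    (y : Spec (CommRingCat.of B)) :
    Spec.map (CommRingCat.ofHom (algebraMap B y.asIdeal.ResidueField)) ≫ v =
      (Spec.map (Scheme.Spec.residueFieldIso (.of B) y).hom ≫ Spec.map (v.residueFieldMap y)) ≫
        S.fromSpecResidueField (v y) := by
  rw [Category.assoc, Scheme.Hom.SpecMap_residueFieldMap_fromSpecResidueField,
    ← Scheme.Spec.map_residueFieldIso_inv_eq_fromSpecResidueField, Category.assoc, ← Spec.map_comp_assoc,
    Iso.inv_hom_id, Spec.map_id, Category.id_comp]

/-- If the kernel is nontrivial at `s`, then it is nontrivial at the points of a neighbourhood. -/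
theorem exists_nhd_not (hH : SGA3x.IsMultTypeFT H) [IsSeparated G.hom]
    (hG : IsLocallyNoetherian S ∨ LocallyOfFinitePresentation G.hom) (u : H ⟶ G) [IsMonHom u] (s : S)
    (hs : ¬ TrivOver (S.fromSpecResidueField s) u) :
    ∃ U : S.Opens, s ∈ U ∧ ∀ s' ∈ U, ¬ TrivOver (S.fromSpecResidueField s') u := by
  obtain ⟨B, _, v, M, _, hv, ⟨y, rfl⟩, hM, ⟨e⟩⟩ := K10.MTLoc.exists_etale_split hH s
  have : AddGroup.FG M := hM
  let i : Red.DS (Spec (CommRingCat.of B)) M ⟶ Red.bc v H := e.inv.hom.hom
  have hi : IsMonHom i := inferInstanceAs (IsMonHom e.inv.hom.hom)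
  have hi' : IsIso i := inferInstanceAs (IsIso ((Grp.forget _).map e.inv))
  let φ : Red.DS (Spec (CommRingCat.of B)) M ⟶ Red.bc v G := i ≫ (Over.pullback v).map u
  have hφ : IsMonHom φ := inferInstance
  have h1 : IsSeparated (Red.bc v G).hom := inferInstanceAs (IsSeparated (pullback.snd _ _))
  have h2 : IsNoetherianRing B ∨ LocallyOfFinitePresentation (Red.bc v G).hom := by
    obtain hG | hG := hG
    · left
      have h3 : IsLocallyNoetherian (Spec (CommRingCat.of B)) := LocallyOfFiniteType.isLocallyNoetherian v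
      exact isLocallyNoetherian_Spec.mp h3
    · right
      exact inferInstanceAs (LocallyOfFinitePresentation (pullback.snd _ _))
  have hsp : ∀ (f : B) (y' : Spec (CommRingCat.of B)), f ∉ y'.asIdeal →
      y' ∈ Set.range (Spec.map (CommRingCat.ofHom (algebraMap B (Localization.Away f)))) := by
    intro f y' hf
    change y' ∈ Set.range (PrimeSpectrum.comap (algebraMap B (Localization.Away f)))
    rw [PrimeSpectrum.localization_away_comap_range (Localization.Away f) f]
    exact hf
  obtain ⟨f, hf, hφf⟩ := exists_away_not φ h2 y.asIdeal (fun f hf hT => hs (by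
    have h4 := (trivOver_bc_iff v _ u).1 (TrivOver.of_iso_comp i hT)
    let w : Spec (CommRingCat.of (Localization.Away f)) ⟶ S :=
      Spec.map (CommRingCat.ofHom (algebraMap B (Localization.Away f))) ≫ v
    have h5 : Etale w := inferInstance
    refine TrivOver.of_range w ?_ h4
    rintro _ ⟨z, rfl⟩
    have h6 : S.fromSpecResidueField (v y) z ∈ Set.range (S.fromSpecResidueField (v y)) := ⟨z, rfl⟩
    rw [Scheme.range_fromSpecResidueField] at h6
    obtain ⟨z', hz'⟩ := hsp f y hf
    exact ⟨z', by rw [Scheme.Hom.comp_apply, hz', h6]⟩))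
  let w : Spec (CommRingCat.of (Localization.Away f)) ⟶ S :=
    Spec.map (CommRingCat.ofHom (algebraMap B (Localization.Away f))) ≫ v
  have h5 : Etale w := inferInstance
  refine ⟨⟨Set.range w, w.isOpenMap.isOpen_range⟩, ?_, ?_⟩
  · obtain ⟨z, hz⟩ := hsp f y hf
    exact ⟨z, by rw [Scheme.Hom.comp_apply, hz]⟩
  · rintro _ ⟨z, rfl⟩ hT
    let y' : Spec (CommRingCat.of B) := Spec.map (CommRingCat.ofHom (algebraMap B (Localization.Away f))) z
    have hy' : f ∉ y'.asIdeal := by
      have h6 : y' ∈ Set.range (PrimeSpectrum.comap (algebraMap B (Localization.Away f))) := ⟨z, rfl⟩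
      rw [PrimeSpectrum.localization_away_comap_range (Localization.Away f) f] at h6
      exact h6
    refine hφf y'.asIdeal hy' ?_
    apply TrivOver.iso_comp
    rw [trivOver_bc_iff, residueField_factor]
    exact hT.comp _

/-- **The locus where a homomorphism from a group of multiplicative type is a monomorphism is open and closed.** -/
theorem exists_clopen (hH : SGA3x.IsMultTypeFT H) [IsSeparated G.hom]
    (hG : IsLocallyNoetherian S ∨ LocallyOfFinitePresentation G.hom) (u : H ⟶ G) [IsMonHom u] :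
    ∃ W : S.Opens, IsClosed (W : Set S) ∧ ∀ {S' : Scheme.{u}} (ρ : S' ⟶ S),
      TrivOver ρ u ↔ Set.range ρ ⊆ (W : Set S) := by
  have h1 : ∀ s, TrivOver (S.fromSpecResidueField s) u →
      ∃ U : S.Opens, s ∈ U ∧ TrivOver U.ι u := K12.MonoNhd.exists_nhd hH hG u
  have h1' : ∀ (U : S.Opens), TrivOver U.ι u → ∀ s ∈ U, TrivOver (S.fromSpecResidueField s) u := by
    intro U hU s hs
    refine TrivOver.of_range U.ι ?_ hU
    rw [Scheme.range_fromSpecResidueField, Scheme.Opens.range_ι, Set.singleton_subset_iff]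
    exact hs
  refine ⟨⟨{s | TrivOver (S.fromSpecResidueField s) u}, ?_⟩, ?_, ?_⟩
  · refine isOpen_iff_mem_nhds.2 fun s hs => ?_
    obtain ⟨U, hU, hU'⟩ := h1 s hs
    exact Filter.mem_of_superset (U.2.mem_nhds hU) fun s' hs' => h1' U hU' s' hs'
  · refine isOpen_compl_iff.1 (isOpen_iff_mem_nhds.2 fun s hs => ?_)
    obtain ⟨U, hU, hU'⟩ := exists_nhd_not hH hG u s hs
    exact Filter.mem_of_superset (U.2.mem_nhds hU) fun s' hs' => hU' s' hs'
  · intro S' ρ
    constructor
    · rintro h _ ⟨s', rfl⟩
      change TrivOver (S.fromSpecResidueField (ρ s')) u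
      have h2 := h.comp (S'.fromSpecResidueField s')
      rw [← Scheme.Hom.SpecMap_residueFieldMap_fromSpecResidueField] at h2
      have h3 : Surjective (Spec.map (ρ.residueFieldMap s')) := ⟨fun x => ⟨default, Subsingleton.elim _ _⟩⟩
      have h4 : Flat (Spec.map (ρ.residueFieldMap s')) := inferInstance
      exact trivOver_of_comp _ h2
    · intro h
      exact trivOver_of_opens fun s' => h1 (ρ s') (h ⟨s', rfl⟩)

end glob

end K204.MonoClopen
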