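import Groth.Agent.SGA3x.K204.MonoClopen
import Groth.Agent.SGA3x.K5.Clopen
import Groth.Agent.SGA3x.K20.HomGrp

/-!
# The scheme of monomorphisms from a finite group of multiplicative type to an affine group

* `Triv χ`: the members of the family of homomorphisms `χ : H ⊗ X ⟶ G` have trivial kernels;
* `exists_rep`: `H` finite of multiplicative type, `G` affine and locally of finite presentation over `S`: the functor of
  families of homomorphisms with trivial kernels is representable by a scheme affine and locally of finite presentation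
  over `S`.
-/

set_option autoImplicit false
universe u
open CategoryTheory MonoidalCategory CartesianMonoidalCategory MonObj GrpObj AlgebraicGeometry Limits

namespace K204.MonoScheme

open Groth.Agent Groth.Agent.SGA3x Groth.Agent.SGA3x.K5.Clopen Groth.Agent.Sga3B K12.TrivKer

variable {S : Scheme.{u}} {H G : Over S} [GrpObj H] [GrpObj G]

/-- the members of the family `χ` have trivial kernels -/
def Triv {X : Over S} (χ : H ⊗ X ⟶ G) : Prop :=
  ∀ (T : Over S) (d : T ⟶ H) (x : T ⟶ X), lift d x ≫ χ = 1 → d = 1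

omit [GrpObj H] [GrpObj G] in
lemma lift_whisker {X Y T : Over S} (d : T ⟶ H) (y : T ⟶ Y) (x : Y ⟶ X) (χ : H ⊗ X ⟶ G) :
    lift d y ≫ (H ◁ x) ≫ χ = lift d (y ≫ x) ≫ χ := by
  rw [← Category.assoc, lift_whiskerLeft]

lemma Triv.comp {X Y : Over S} {χ : H ⊗ X ⟶ G} (h : Triv χ) (x : Y ⟶ X) : Triv ((H ◁ x) ≫ χ) := by
  intro T d y hy
  rw [lift_whisker] at hy
  exact h T d _ hy

lemma isHomFamily_comp {X Y : Over S} {χ : H ⊗ X ⟶ G} (h : AutFam.IsHomFamily H G χ) (x : Y ⟶ X) :
    AutFam.IsHomFamily H G ((H ◁ x) ≫ χ) := by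
  intro T d d' y
  rw [lift_whisker, lift_whisker, lift_whisker]
  exact h T d d' _

lemma lift_one {X T : Over S} {χ : H ⊗ X ⟶ G} (hχ : AutFam.IsHomFamily H G χ) (x : T ⟶ X) :
    lift (1 : T ⟶ H) x ≫ χ = 1 := by
  have h := hχ T 1 1 x
  rwa [_root_.one_mul, eq_comm, mul_eq_left] at h

lemma lift_inv {X T : Over S} {χ : H ⊗ X ⟶ G} (hχ : AutFam.IsHomFamily H G χ) (d : T ⟶ H) (x : T ⟶ X) :
    lift d⁻¹ x ≫ χ = (lift d x ≫ χ)⁻¹ := by
  rw [eq_inv_iff_mul_eq_one, ← hχ, inv_mul_cancel, lift_one hχ]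

/-- a family of homomorphisms with trivial kernels is injective -/
lemma Triv.inj {X T : Over S} {χ : H ⊗ X ⟶ G} (h : Triv χ) (hχ : AutFam.IsHomFamily H G χ) {d d' : T ⟶ H}
    (x : T ⟶ X) (e : lift d x ≫ χ = lift d' x ≫ χ) : d = d' := by
  have h1 : lift (d * d'⁻¹) x ≫ χ = 1 := by
    rw [hχ, lift_inv hχ, e, mul_inv_cancel]
  exact mul_inv_eq_one.1 (h T _ x h1)

/-- Triviality of the kernels in terms of base changes. -/
lemma triv_iff {X Y : Over S} (υ : H ⊗ X ⟶ G) (x : Y ⟶ X) :
    Triv ((H ◁ x) ≫ υ) ↔ TrivOver (H := Red.bc X.hom H) (G := Red.bc X.hom G) x.left (famMap υ) := by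
  constructor
  · intro h T t ht q hq
    let y : (Over.map X.hom).obj T ⟶ Y := Over.homMk t (by
      change t ≫ Y.hom = T.hom ≫ X.hom
      rw [← Over.w x, ← Category.assoc, ht])
    have hy : y ≫ x = st T := by
      ext1
      exact ht
    apply (BcPts.bcEquiv X.hom T H).symm.injective
    have h1 : (BcPts.bcEquiv X.hom T H).symm 1 = 1 := (BcPts.bcMulEquiv X.hom T H).symm.map_one
    rw [h1]
    refine h _ _ y ?_
    rw [lift_whisker, hy]
    apply (BcPts.bcEquiv X.hom T G).injective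
    rw [← comp_famMap, hq]
    exact ((BcPts.bcMulEquiv X.hom T G).map_one).symm
  · intro h T d y hy
    let T₁ : Over X.left := Over.mk (y ≫ x).left
    let e : (Over.map X.hom).obj T₁ ≅ T := Over.isoMk (Iso.refl _) (by
      change 𝟙 _ ≫ T.hom = (y ≫ x).left ≫ X.hom
      rw [Over.w, Category.id_comp])
    have he : e.hom ≫ y ≫ x = st T₁ := by
      ext1
      exact Category.id_comp _
    have h1 := h T₁ y.left rfl (BcPts.bcEquiv X.hom T₁ H (e.hom ≫ d)) (by
      rw [comp_famMap, Equiv.symm_apply_apply, ← he, ← comp_lift, Category.assoc]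
      rw [lift_whisker] at hy
      rw [hy, comp_one]
      exact (BcPts.bcMulEquiv X.hom T₁ G).map_one)
    have h2 : e.hom ≫ d = 1 := by
      apply (BcPts.bcEquiv X.hom T₁ H).injective
      rw [h1]
      exact ((BcPts.bcMulEquiv X.hom T₁ H).map_one).symm
    rw [← cancel_epi e.hom, h2, comp_one]

/-- **The scheme of monomorphisms.** -/
theorem exists_rep (hH : SGA3x.IsMultTypeFT H) [IsFinite H.hom] [IsAffineHom G.hom]
    [LocallyOfFinitePresentation G.hom] :
    ∃ (P : Over S) (χ : H ⊗ P ⟶ G), AutFam.IsHomFamily H G χ ∧ Triv χ ∧ IsAffineHom P.hom ∧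
      LocallyOfFinitePresentation P.hom ∧
      ∀ (X : Over S) (φ : H ⊗ X ⟶ G), AutFam.IsHomFamily H G φ → Triv φ → ∃! a : X ⟶ P, (H ◁ a) ≫ χ = φ := by
  have h1 : Flat H.hom := _root_.K10.MTLoc.flat hH
  have h2 : LocallyOfFinitePresentation H.hom := _root_.K10.MTLoc.locallyOfFinitePresentation hH
  obtain ⟨A, υ, ⟨hυ, hrep⟩, hA1, -, hA2⟩ := K20.HomGrp.exists_representsHom H G
  have hA3 := hA2 inferInstance
  have hu := isMonHom_famMap hυ
  have hs : IsSeparated (Red.bc A.hom G).hom := inferInstanceAs (IsSeparated (pullback.snd _ _))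
  have hl : LocallyOfFinitePresentation (Red.bc A.hom G).hom :=
    inferInstanceAs (LocallyOfFinitePresentation (pullback.snd _ _))
  obtain ⟨W, hW, hWT⟩ := K204.MonoClopen.exists_clopen (_root_.K10.MTLoc.bc A.hom hH) (Or.inr hl) (famMap υ)
  let P : Over S := Over.mk (W.ι ≫ A.hom)
  let inc : P ⟶ A := Over.homMk W.ι rfl
  have hι : IsClosedImmersion W.ι := by
    have : IsClosed (Set.range W.ι) := by
      rw [Scheme.Opens.range_ι]
      exact hW
    exact ⟨⟨W.ι.isOpenEmbedding.toIsEmbedding, this⟩⟩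
  have hm : Mono inc.left := inferInstanceAs (Mono W.ι)
  have hm' : Mono inc := Over.mono_of_mono_left _
  refine ⟨P, (H ◁ inc) ≫ υ, isHomFamily_comp hυ inc, ?_, inferInstanceAs (IsAffineHom (W.ι ≫ A.hom)),
    inferInstanceAs (LocallyOfFinitePresentation (W.ι ≫ A.hom)), fun X φ hφ hφ' => ?_⟩
  · rw [triv_iff, hWT]
    exact (Scheme.Opens.range_ι W).le
  · obtain ⟨a, ha, huniq⟩ := hrep X φ hφ
    have h3 : Set.range a.left ⊆ (W : Set A.left) := by
      rw [← hWT, ← triv_iff, ha]
      exact hφ'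
    have h4 : Set.range a.left ⊆ Set.range W.ι := by rwa [Scheme.Opens.range_ι]
    have h5 := IsOpenImmersion.lift_fac W.ι a.left h4
    let b : X ⟶ P := Over.homMk (IsOpenImmersion.lift W.ι a.left h4) (by
      change _ ≫ W.ι ≫ A.hom = X.hom
      rw [← Category.assoc, h5, Over.w])
    have hb : b ≫ inc = a := by
      ext1
      exact h5
    refine ⟨b, ?_, fun b' hb' => ?_⟩
    · change H ◁ b ≫ (H ◁ inc) ≫ υ = φ
      rw [← Category.assoc, ← MonoidalCategory.whiskerLeft_comp, hb, ha]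
    · rw [← cancel_mono inc, hb]
      refine huniq _ ?_
      change H ◁ (b' ≫ inc) ≫ υ = φ
      rw [MonoidalCategory.whiskerLeft_comp, Category.assoc]
      exact hb'

end K204.MonoScheme
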